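import Groth.Agent.GrLCLib.Cohom
import Mathlib.RingTheory.Noetherian.Defs

/-!
The Veronese functor on graded modules over an abstractly presented Veronese subring.
-/

set_option autoImplicit false
set_option linter.unusedSectionVars false
set_option linter.style.haveILetI false
set_option backward.isDefEq.respectTransparency false
set_option backward.isDefEq.respectTransparency.types false
universe u

open scoped Classical
open DirectSum Groth.Agent.GrLCLib

noncomputable section

namespace Groth.Agent.GrLCVeronese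

variable {R : Type u} [CommRing R] (𝒜 : ℤ → AddSubgroup R) [GradedRing 𝒜]
  {R' : Type u} [CommRing R'] (𝒜' : ℤ → AddSubgroup R') [GradedRing 𝒜']

/-- A Veronese subring presented by an injective ring map. -/
structure Datum where
  q : ℕ
  hq : 0 < q
  φ : R' →+* R
  hφ : Function.Injective φ
  hdeg : ∀ j : ℤ, (𝒜' j).map (φ : R' →+ R) = 𝒜 (j * q)

variable {𝒜 𝒜'} (D : Datum 𝒜 𝒜')

lemma Datum.map_mem {j : ℤ} {a : R'} (ha : a ∈ 𝒜' j) : D.φ a ∈ 𝒜 (j * D.q) :=
  D.hdeg j ▸ AddSubgroup.mem_map_of_mem _ ha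

lemma Datum.exists_preimage {j : ℤ} {r : R} (hr : r ∈ 𝒜 (j * D.q)) : ∃ a ∈ 𝒜' j, D.φ a = r := by
  rw [← D.hdeg j] at hr
  exact hr

lemma Datum.q_ne : (D.q : ℤ) ≠ 0 := Int.natCast_ne_zero.2 D.hq.ne'

lemma Datum.mul_right_inj {i j : ℤ} (h : i * (D.q : ℤ) = j * D.q) : i = j := mul_right_cancel₀ D.q_ne h

section proj

variable {X : Type u} [AddCommGroup X] [Module R X] (𝒳 : ℤ → AddSubgroup X) [DirectSum.Decomposition 𝒳]
  [SetLike.GradedSMul 𝒜 𝒳]

/-- The projection onto the sum of the pieces in degrees divisible by `q`. -/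
def vproj : X →+ X :=
  (DirectSum.toAddMonoid fun g => if (D.q : ℤ) ∣ g then (𝒳 g).subtype else 0).comp
    (DirectSum.decomposeAddEquiv 𝒳).toAddMonoidHom

lemma vproj_of_mem {g : ℤ} {x : X} (hx : x ∈ 𝒳 g) : vproj D 𝒳 x = if (D.q : ℤ) ∣ g then x else 0 := by
  simp only [vproj, AddMonoidHom.comp_apply, AddEquiv.coe_toAddMonoidHom,
    DirectSum.decomposeAddEquiv_apply, DirectSum.decompose_of_mem 𝒳 hx, DirectSum.toAddMonoid_of]
  split <;> rfl

lemma vproj_idem (x : X) : vproj D 𝒳 (vproj D 𝒳 x) = vproj D 𝒳 x := by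
  induction x using DirectSum.Decomposition.inductionOn 𝒳 with
  | zero => simp
  | @homogeneous g y =>
    rw [vproj_of_mem D 𝒳 y.2]
    split
    · rename_i h; rw [vproj_of_mem D 𝒳 y.2, if_pos h]
    · exact map_zero _
  | add a b ha hb => simp [ha, hb]

lemma pr_vproj (g : ℤ) (x : X) : pr 𝒳 g (vproj D 𝒳 x) = if (D.q : ℤ) ∣ g then pr 𝒳 g x else 0 := by
  induction x using DirectSum.Decomposition.inductionOn 𝒳 with
  | zero => simp
  | @homogeneous i y =>
    rw [vproj_of_mem D 𝒳 y.2]
    rcases eq_or_ne i g with rfl | h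
    · split <;> simp [pr_of_mem 𝒳 y.2]
    · split <;> simp [pr_of_mem_ne 𝒳 y.2 h]
  | add a b ha hb =>
    rw [map_add, map_add, ha, hb, map_add]
    split <;> simp

lemma vproj_smul_piece {i : ℤ} {r : R} (hr : r ∈ 𝒜 (i * D.q)) (x : X) :
    vproj D 𝒳 (r • x) = r • vproj D 𝒳 x := by
  induction x using DirectSum.Decomposition.inductionOn 𝒳 with
  | zero => simp
  | @homogeneous g y =>
    rw [vproj_of_mem D 𝒳 y.2, vproj_of_mem D 𝒳 (smul_mem 𝒜 𝒳 hr y.2)]
    have : (D.q : ℤ) ∣ i * D.q + g ↔ (D.q : ℤ) ∣ g := Int.dvd_add_right (Dvd.intro_left _ rfl)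
    by_cases h : (D.q : ℤ) ∣ g
    · rw [if_pos h, if_pos (this.2 h)]
    · rw [if_neg h, if_neg (fun h' => h (this.1 h')), smul_zero]
  | add a b ha hb => simp only [smul_add, map_add, ha, hb]

lemma vproj_smul (a : R') (x : X) : vproj D 𝒳 (D.φ a • x) = D.φ a • vproj D 𝒳 x := by
  induction a using DirectSum.Decomposition.inductionOn 𝒜' with
  | zero => simp
  | @homogeneous i b => exact vproj_smul_piece D 𝒳 (D.map_mem b.2) x
  | add a b ha hb => simp only [map_add, add_smul, ha, hb]

variable {Y : Type u} [AddCommGroup Y] [Module R Y] (𝒴 : ℤ → AddSubgroup Y) [DirectSum.Decomposition 𝒴]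
  [SetLike.GradedSMul 𝒜 𝒴]

lemma vproj_map {f : X →ₗ[R] Y} (hf : GrLC.IsGrHom 𝒳 𝒴 f) (x : X) :
    f (vproj D 𝒳 x) = vproj D 𝒴 (f x) := by
  induction x using DirectSum.Decomposition.inductionOn 𝒳 with
  | zero => simp
  | @homogeneous g y =>
    rw [vproj_of_mem D 𝒳 y.2, vproj_of_mem D 𝒴 (hf g _ y.2)]
    split <;> simp
  | add a b ha hb => simp only [map_add, ha, hb]

/-- The sum of the pieces in degrees divisible by `q`. -/
def vset : AddSubgroup X where
  carrier := {x | vproj D 𝒳 x = x}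
  zero_mem' := map_zero _
  add_mem' {a b} ha hb := by show _ = _; rw [map_add, show _ = a from ha, show _ = b from hb]
  neg_mem' {a} ha := by show _ = _; rw [map_neg, show _ = a from ha]

lemma mem_vset_of_mem {j : ℤ} {x : X} (hx : x ∈ 𝒳 (j * D.q)) : x ∈ vset D 𝒳 := by
  show _ = _
  rw [vproj_of_mem D 𝒳 hx, if_pos (Dvd.intro_left _ rfl)]

end proj

/-- The Veronese module. -/
def Vero (X : GrLC.GMod.{u} 𝒜) : Type u := ↥(vset D X.gr)

instance (X : GrLC.GMod.{u} 𝒜) : AddCommGroup (Vero D X) :=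
  inferInstanceAs (AddCommGroup ↥(vset D X.gr))

/-- The inclusion. -/
def vval (X : GrLC.GMod.{u} 𝒜) : Vero D X →+ X.carrier := (vset D X.gr).subtype

lemma vval_injective (X : GrLC.GMod.{u} 𝒜) : Function.Injective (vval D X) :=
  (vset D X.gr).subtype_injective

instance (X : GrLC.GMod.{u} 𝒜) : SMul R' (Vero D X) :=
  ⟨fun a x => ⟨D.φ a • vval D X x, by
    show vproj D X.gr _ = _
    rw [vproj_smul, show vproj D X.gr (vval D X x) = vval D X x from Subtype.prop (p := fun y => y ∈ vset D X.gr) x]⟩⟩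

lemma vval_smul (X : GrLC.GMod.{u} 𝒜) (a : R') (x : Vero D X) : vval D X (a • x) = D.φ a • vval D X x := rfl

instance (X : GrLC.GMod.{u} 𝒜) : Module R' (Vero D X) where
  one_smul x := vval_injective D X (by rw [vval_smul, map_one, one_smul])
  mul_smul a b x := vval_injective D X (by rw [vval_smul, vval_smul, vval_smul, map_mul, mul_smul])
  smul_zero a := vval_injective D X (by rw [vval_smul, map_zero, smul_zero])
  smul_add a x y := vval_injective D X (by rw [vval_smul, map_add, smul_add, map_add, vval_smul, vval_smul])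
  add_smul a b x := vval_injective D X (by rw [vval_smul, map_add, map_add, add_smul, vval_smul, vval_smul])
  zero_smul x := vval_injective D X (by rw [vval_smul, map_zero, zero_smul, map_zero])

/-- The pieces of the Veronese module. -/
def vpiece (X : GrLC.GMod.{u} 𝒜) (j : ℤ) : AddSubgroup (Vero D X) := (X.gr (j * D.q)).comap (vval D X)

instance (X : GrLC.GMod.{u} 𝒜) : SetLike.GradedSMul 𝒜' (vpiece D X) :=
  ⟨fun {i j a x} ha hx => by
    show vval D X (a • x) ∈ X.gr ((i + j) * D.q)
    rw [vval_smul, add_mul]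
    exact smul_mem 𝒜 X.gr (D.map_mem ha) hx⟩

lemma pr_eq_zero_of_not_dvd (X : GrLC.GMod.{u} 𝒜) (x : Vero D X) {g : ℤ} (h : ¬ (D.q : ℤ) ∣ g) :
    pr X.gr g (vval D X x) = 0 := by
  rw [← (show vproj D X.gr (vval D X x) = vval D X x from Subtype.prop (p := fun y => y ∈ vset D X.gr) x),
    pr_vproj, if_neg h]

lemma isInternal_vpiece (X : GrLC.GMod.{u} 𝒜) : DirectSum.IsInternal (vpiece D X) := by
  have key : ∀ (w : ⨁ j, vpiece D X j) (j : ℤ),
      pr X.gr (j * D.q) (vval D X (DirectSum.coeAddMonoidHom (vpiece D X) w)) = vval D X (w j : Vero D X) := by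
    intro w j
    induction w using DirectSum.induction_on with
    | zero => simp
    | of i v =>
      rw [DirectSum.coeAddMonoidHom_of]
      by_cases h : i = j
      · subst h
        rw [DirectSum.of_eq_same, pr_of_mem X.gr v.2]
      · rw [DirectSum.of_eq_of_ne _ _ _ (Ne.symm h), pr_of_mem_ne X.gr v.2 (fun h' => h (D.mul_right_inj h'))]
        exact (map_zero _).symm
    | add a b ha hb => simp only [map_add, DirectSum.add_apply, AddSubgroup.coe_add, ha, hb]
  refine ⟨fun a b h => DFinsupp.ext fun j => Subtype.ext (vval_injective D X ?_), fun z => ?_⟩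
  · rw [← key a j, ← key b j, h]
  · let s := (DirectSum.decompose X.gr (vval D X z)).support
    have hdvd : ∀ g ∈ s, g / (D.q : ℤ) * D.q = g := fun g hg => Int.ediv_mul_cancel (by
      by_contra h
      exact DFinsupp.mem_support_iff.1 hg (Subtype.ext (pr_eq_zero_of_not_dvd D X z h)))
    refine ⟨∑ g ∈ s.attach, DirectSum.of (fun j => vpiece D X j) (g.1 / (D.q : ℤ))
      ⟨⟨pr X.gr g.1 (vval D X z),
          mem_vset_of_mem D X.gr (j := g.1 / (D.q : ℤ)) (by rw [hdvd g.1 g.2]; exact pr_mem _ _ _)⟩,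
        show pr X.gr g.1 (vval D X z) ∈ X.gr (g.1 / (D.q : ℤ) * D.q) by rw [hdvd g.1 g.2]; exact pr_mem _ _ _⟩, vval_injective D X ?_⟩
    rw [map_sum, map_sum]
    simp only [DirectSum.coeAddMonoidHom_of]
    exact (Finset.sum_attach s fun g => pr X.gr g (vval D X z)).trans (sum_pr X.gr _)

/-- The Veronese object. -/
def veroObj (X : GrLC.GMod.{u} 𝒜) : GrLC.GMod.{u} 𝒜' :=
  letI : DirectSum.Decomposition (vpiece D X) := (isInternal_vpiece D X).chooseDecomposition
  GrLC.GMod.of 𝒜' (Vero D X) (vpiece D X)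

/-- The Veronese of a graded map. -/
def veroMap {X Y : GrLC.GMod.{u} 𝒜} (f : X.carrier →ₗ[R] Y.carrier) (hf : GrLC.IsGrHom X.gr Y.gr f) :
    (veroObj D X).carrier →ₗ[R'] (veroObj D Y).carrier where
  toFun x := ⟨f (vval D X x), by
    show vproj D Y.gr _ = _
    rw [← vproj_map D X.gr Y.gr hf, show vproj D X.gr (vval D X x) = vval D X x from
      Subtype.prop (p := fun y => y ∈ vset D X.gr) x]⟩
  map_add' x y := vval_injective D Y ((congrArg f (map_add (vval D X) x y)).trans (map_add f _ _))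
  map_smul' a x := vval_injective D Y (map_smul f (D.φ a) (vval D X x))

lemma vval_veroMap {X Y : GrLC.GMod.{u} 𝒜} (f : X.carrier →ₗ[R] Y.carrier) (hf : GrLC.IsGrHom X.gr Y.gr f)
    (x : (veroObj D X).carrier) : vval D Y (veroMap D f hf x) = f (vval D X x) := rfl

lemma veroMap_grHom {X Y : GrLC.GMod.{u} 𝒜} (f : X.carrier →ₗ[R] Y.carrier) (hf : GrLC.IsGrHom X.gr Y.gr f) :
    GrLC.IsGrHom (veroObj D X).gr (veroObj D Y).gr (veroMap D f hf) := fun j x hx => hf _ _ hx

/-- The projection as a map into the Veronese module. -/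
def vmk (X : GrLC.GMod.{u} 𝒜) (x : X.carrier) : (veroObj D X).carrier :=
  ⟨vproj D X.gr x, vproj_idem D X.gr x⟩

lemma exists_vero_preimage {X Y : GrLC.GMod.{u} 𝒜} {f : X.carrier →ₗ[R] Y.carrier} (hf : GrLC.IsGrHom X.gr Y.gr f)
    {y : (veroObj D Y).carrier} (hy : vval D Y y ∈ LinearMap.range f) :
    y ∈ LinearMap.range (veroMap D f hf) := by
  obtain ⟨x, hx⟩ := hy
  exact ⟨vmk D X x, vval_injective D Y ((vproj_map D X.gr Y.gr hf x).trans
    ((congrArg _ hx).trans (Subtype.prop (p := fun z => z ∈ vset D Y.gr) y)))⟩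

include D in
theorem isNoetherianRing [IsNoetherianRing R] : IsNoetherianRing R' := by
  have hret : ∀ J : Ideal R', (J.map D.φ).comap D.φ = J := fun J => by
    refine le_antisymm (fun a ha => ?_) Ideal.le_comap_map
    have hrange : ∀ r : R, ∃ b : R', D.φ b = vproj D 𝒜 r := fun r => by
      induction r using DirectSum.Decomposition.inductionOn 𝒜 with
      | zero => exact ⟨0, by simp⟩
      | @homogeneous g y =>
        rw [vproj_of_mem D 𝒜 y.2]
        split
        · rename_i h
          obtain ⟨b, -, hb⟩ := D.exists_preimage (j := g / D.q) (r := y) (by rw [Int.ediv_mul_cancel h]; exact y.2)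
          exact ⟨b, hb⟩
        · exact ⟨0, map_zero _⟩
      | add u v hu hv =>
        obtain ⟨b, hb⟩ := hu; obtain ⟨c, hc⟩ := hv
        exact ⟨b + c, by rw [map_add, map_add, hb, hc]⟩
    have hmain : ∀ r ∈ J.map D.φ, ∀ s : R, ∃ b ∈ J, D.φ b = vproj D 𝒜 (s * r) := by
      intro r hr
      induction hr using Submodule.span_induction with
      | mem r hr =>
        obtain ⟨b, hb, rfl⟩ := hr
        intro s
        obtain ⟨c, hc⟩ := hrange s
        refine ⟨b * c, J.mul_mem_right _ hb, ?_⟩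
        rw [map_mul, hc, mul_comm s]
        exact (vproj_smul D 𝒜 b s).symm
      | zero => exact fun s => ⟨0, J.zero_mem, by simp⟩
      | add u v _ _ hu hv =>
        intro s
        obtain ⟨b, hb, hb'⟩ := hu s; obtain ⟨c, hc, hc'⟩ := hv s
        exact ⟨b + c, J.add_mem hb hc, by rw [map_add, hb', hc', mul_add, map_add]⟩
      | smul t u _ hu => exact fun s => by simpa only [smul_eq_mul, mul_assoc] using hu (s * t)
    obtain ⟨b, hb, hb'⟩ := hmain _ ha 1
    have hone : vproj D 𝒜 (1 : R) = 1 := by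
      rw [vproj_of_mem D 𝒜 (SetLike.one_mem_graded 𝒜), if_pos (dvd_zero _)]
    have hfix : vproj D 𝒜 (D.φ a) = D.φ a := by
      have h1 := vproj_smul D 𝒜 a (1 : R)
      rwa [hone, smul_eq_mul, mul_one] at h1
    rw [one_mul, hfix] at hb'
    rwa [D.hφ hb'] at hb
  refine isNoetherianRing_iff.2 (isNoetherian_iff'.2 ?_)
  haveI : WellFoundedGT (Ideal R) := isNoetherian_iff'.1 inferInstance
  refine StrictMono.wellFoundedGT (f := fun J : Ideal R' => J.map D.φ) fun I J h => ?_
  refine lt_of_le_of_ne (Ideal.map_mono h.le) fun he => h.ne ?_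
  exact (hret I).symm.trans ((congrArg (Ideal.comap D.φ) he).trans (hret J))

end Groth.Agent.GrLCVeronese
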