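import Groth.Agent.GrLCVeronese.Main

/-!
The semilinear comparison map between the graded local cohomology of a Veronese subring and the ring.
-/

set_option autoImplicit false
set_option linter.unusedSectionVars false
set_option linter.style.haveILetI false
set_option backward.isDefEq.respectTransparency false
set_option backward.isDefEq.respectTransparency.types false
universe u

open scoped Classical
open DirectSum Groth.Agent.GrLCLib

noncomputable section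

namespace Groth.Agent.GrLCVeronese

variable {R : Type u} [CommRing R] [IsNoetherianRing R] {𝒜 : ℤ → AddSubgroup R} [GradedRing 𝒜]
  {R' : Type u} [CommRing R'] {𝒜' : ℤ → AddSubgroup R'} [GradedRing 𝒜']
  (D : Datum 𝒜 𝒜') {m : HomogeneousIdeal 𝒜} {m' : HomogeneousIdeal 𝒜'}
  (hm : m.toIdeal = Ideal.span (⋃ n ∈ Set.Ioi (0 : ℤ), (𝒜 n : Set R)))
  (hm' : m'.toIdeal = Ideal.span (⋃ n ∈ Set.Ioi (0 : ℤ), (𝒜' n : Set R')))
variable {M : Type u} [AddCommGroup M] [Module R M] {ℳ : ℤ → AddSubgroup M} [DirectSum.Decomposition ℳ]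
  [SetLike.GradedSMul 𝒜 ℳ]
variable {M' : Type u} [AddCommGroup M'] [Module R' M'] {ℳ' : ℤ → AddSubgroup M'} [DirectSum.Decomposition ℳ']
  [SetLike.GradedSMul 𝒜' ℳ']
variable (E : GrLC.StarInjRes 𝒜 ℳ) (F : GrLC.StarInjRes 𝒜' ℳ') (g : M' →ₛₗ[D.φ] M) (hg : Function.Injective g)
  (hgdeg : ∀ j : ℤ, (ℳ' j).map (g : M' →+ M) = ℳ (j * D.q))

include hm hm' hg hgdeg in
/-- `H^p_{m'}(M') → H^p_m(M)` identifies the pieces of degree `j` with those of degree `jq`. -/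
theorem exists_hmap (p : ℕ) : ∃ Ψ : F.H m' p →ₛₗ[D.φ] E.H m p, ∀ j : ℤ,
    (∀ x ∈ F.Hgr m' p j, Ψ x ∈ E.Hgr m p (j * D.q) ∧ (Ψ x = 0 → x = 0)) ∧
      ∀ y ∈ E.Hgr m p (j * D.q), ∃ x ∈ F.Hgr m' p j, Ψ x = y := by
  haveI := isNoetherianRing D
  let K := veroRes D hm hm' E g hg hgdeg
  obtain ⟨c⟩ := exists_cmap K F
  let A : ↥(K.cocyc p) →ₗ[R'] F.H m' p := (F.toH m' p) ∘ₗ
    ((c.ψ p ∘ₗ (K.cocyc p).subtype).codRestrict (F.cocyc m' p) fun z => c.map_cocyc z.2)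
  have hA : Function.Surjective A := fun y => by
    obtain ⟨⟨u, hu⟩, rfl⟩ := Submodule.mkQ_surjective _ y
    obtain ⟨z, hz, hd⟩ := c.exists_cocyc_sub hu
    refine ⟨⟨z, hz⟩, (Submodule.Quotient.eq _).2 ?_⟩
    show c.ψ p z - u ∈ F.cobdy m' p
    rw [← neg_sub]
    exact neg_mem hd
  have hA0 : ∀ z : ↥(K.cocyc p), A z = 0 ↔ (z : (K.X p).carrier) ∈ K.cobdy p := fun z =>
    (Submodule.Quotient.mk_eq_zero ((F.cobdy m' p).comap (F.cocyc m' p).subtype)).trans (c.map_cobdy_iff z.2)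
  let B : ↥(K.cocyc p) →ₛₗ[D.φ] E.H m p :=
    { toFun := fun z => E.toH m p ⟨vval D (E.X p) z.1, (veroRes_cocyc_iff D E g z.1).1 z.2⟩
      map_add' := fun z w => Eq.trans (congrArg (E.toH m p) (Subtype.ext (map_add (vval D (E.X p)) z.1 w.1)))
        (map_add _ _ _)
      map_smul' := fun a z => Eq.trans (congrArg (E.toH m p) (Subtype.ext (vval_smul D (E.X p) a z.1)))
        (map_smul (E.toH m p) (D.φ a) _) }
  have hB0 : ∀ z : ↥(K.cocyc p), (z : (K.X p).carrier) ∈ K.cobdy p → B z = 0 := by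
    intro z hz
    refine (Submodule.Quotient.mk_eq_zero ((E.cobdy m p).comap (E.cocyc m p).subtype)).2 ?_
    show vval D (E.X p) z.1 ∈ E.cobdy m p
    cases p with
    | zero => rw [(Submodule.mem_bot R').1 hz]; exact (Submodule.mem_bot R).2 (map_zero _)
    | succ p =>
      obtain ⟨y, hy, hyz⟩ := hz
      rw [← hyz]
      exact ⟨vval D (E.X p) y, (mem_gam_vero_iff D m m' hm hm' (E.X p) y).1 hy, rfl⟩
  have hwd : ∀ z w, A z = A w → B z = B w := fun z w h => sub_eq_zero.1 (by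
    rw [← map_sub]
    exact hB0 _ ((hA0 _).1 (by rw [map_sub, h, sub_self])))
  choose s hs using hA
  let Ψ : F.H m' p →ₛₗ[D.φ] E.H m p :=
    { toFun := fun x => B (s x)
      map_add' := fun x y => (hwd _ (s x + s y) (by rw [map_add, hs, hs, hs])).trans (map_add B _ _)
      map_smul' := fun a x => (hwd _ (a • s x) (by rw [map_smul, hs, hs])).trans (map_smulₛₗ B a _) }
  refine ⟨Ψ, fun j => ⟨?_, ?_⟩⟩
  · rintro _ ⟨⟨u, hu⟩, hug, rfl⟩
    obtain ⟨z, hz, hzc, hd⟩ := c.exists_homog_cocyc_sub hug hu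
    have hAz : A ⟨z, hzc⟩ = F.toH m' p ⟨u, hu⟩ := by
      refine (Submodule.Quotient.eq _).2 ?_
      show c.ψ p z - u ∈ F.cobdy m' p
      rw [← neg_sub]
      exact neg_mem hd
    have hΨ : Ψ (F.toH m' p ⟨u, hu⟩) = B ⟨z, hzc⟩ := hwd _ _ ((hs _).trans hAz.symm)
    rw [hΨ]
    refine ⟨⟨⟨vval D (E.X p) z, (veroRes_cocyc_iff D E g z).1 hzc⟩, hz, rfl⟩, fun h0 => ?_⟩
    rw [← hAz]
    refine (hA0 _).2 ((veroRes_cobdy_iff D E g z hz).2 ?_)
    exact (Submodule.Quotient.mk_eq_zero ((E.cobdy m p).comap (E.cocyc m p).subtype)).1 h0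
  · rintro _ ⟨⟨v, hv⟩, hvg, rfl⟩
    let z : (veroObj D (E.X p)).carrier := ⟨v, mem_vset_of_mem D _ hvg⟩
    have hzc : z ∈ K.cocyc p := (veroRes_cocyc_iff D E g z).2 hv
    exact ⟨A ⟨z, hzc⟩, ⟨⟨c.ψ p z, c.map_cocyc hzc⟩, c.gr p j z hvg, rfl⟩,
      (hwd _ ⟨z, hzc⟩ (hs _)).trans (congrArg (E.toH m p) (Subtype.ext rfl))⟩

end Groth.Agent.GrLCVeronese
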