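import Groth.Agent.GrLCLib.Compare
import Groth.Agent.GrLCLib.Bridge

/-!
Graded resolutions by `Γ`-acyclic objects compute graded local cohomology.
-/

set_option autoImplicit false
set_option linter.unusedSectionVars false
set_option linter.style.haveILetI false
set_option backward.isDefEq.respectTransparency false
set_option backward.isDefEq.respectTransparency.types false
universe u

open scoped Classical
open DirectSum CategoryTheory Groth.Agent.GrLCLib

noncomputable section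

namespace Groth.Agent.GrLCVeronese

variable {ι : Type} [AddCommGroup ι] [DecidableEq ι]
variable {R : Type u} [CommRing R] [IsNoetherianRing R] {σ : Type u} [SetLike σ R] [AddSubgroupClass σ R]
  {𝒜 : ι → σ} [GradedRing 𝒜]

lemma subsingleton_H_prod (I : Ideal R) {X Y : Type u} [AddCommGroup X] [Module R X] [AddCommGroup Y] [Module R Y]
    (j : ℕ) (hX : Subsingleton (LocCoh.H I j X)) (hY : Subsingleton (LocCoh.H I j Y)) :
    Subsingleton (LocCoh.H I j (X × Y)) := by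
  let S : ShortComplex (ModuleCat.{u} R) :=
    ShortComplex.mk (X₁ := ModuleCat.of R X) (X₂ := ModuleCat.of R (X × Y)) (X₃ := ModuleCat.of R Y)
      (ModuleCat.ofHom (LinearMap.inl R X Y)) (ModuleCat.ofHom (LinearMap.snd R X Y)) (by ext x; rfl)
  have hS : S.ShortExact :=
    { exact := by
        rw [ShortComplex.moduleCat_exact_iff]
        rintro ⟨x, y⟩ (hy : y = 0)
        exact ⟨x, by subst hy; rfl⟩
      mono_f := (ModuleCat.mono_iff_injective _).2 LinearMap.inl_injective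
      epi_g := (ModuleCat.epi_iff_surjective _).2 fun y => ⟨(0, y), rfl⟩ }
  exact LocH.subsingleton_X₂ hS j hX hY

/-- Torsion lifts along a surjection with acyclic kernel. -/
theorem exists_gam_lift (I : Ideal R) {A B : Type u} [AddCommGroup A] [Module R A] [AddCommGroup B] [Module R B]
    {K : Submodule R A} (h : A →ₗ[R] B) (hsurj : Function.Surjective h) (hK : LinearMap.ker h = K)
    (hvan : Subsingleton (LocCoh.H I 1 K)) {b : B} (hb : b ∈ GrLC.gam I B) :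
    ∃ a ∈ GrLC.gam I A, h a = b := by
  subst hK
  let S : ShortComplex (ModuleCat.{u} R) :=
    ShortComplex.mk (X₁ := ModuleCat.of R (LinearMap.ker h)) (X₂ := ModuleCat.of R A) (X₃ := ModuleCat.of R B)
      (ModuleCat.ofHom (LinearMap.ker h).subtype) (ModuleCat.ofHom h) (by ext x; exact x.2)
  have hS : S.ShortExact :=
    { exact := by
        rw [ShortComplex.moduleCat_exact_iff]
        intro y hy
        exact ⟨⟨y, hy⟩, rfl⟩
      mono_f := (ModuleCat.mono_iff_injective _).2 (LinearMap.ker h).injective_subtype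
      epi_g := (ModuleCat.epi_iff_surjective _).2 hsurj }
  let e3 := ((LocH.zeroIso I).app (ModuleCat.of R B)).toLinearEquiv
  let e2 := ((LocH.zeroIso I).app (ModuleCat.of R A)).toLinearEquiv
  let b' : ↑((DRing.gammaI I).obj (ModuleCat.of R B)) := ⟨b, hb⟩
  obtain ⟨y, hy⟩ := LocH.exact₃ hS 0 (x := e3.symm b') (@Subsingleton.elim _ hvan _ _)
  refine ⟨(e2 y).1, (e2 y).2, ?_⟩
  have hnat : e3 ((localCohomology I 0).map S.g y) = (DRing.gammaI I).map S.g (e2 y) :=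
    congrArg (fun φ => φ.hom y) ((LocH.zeroIso I).hom.naturality S.g)
  have h1 : e3 (e3.symm b') = (DRing.gammaI I).map S.g (e2 y) := by rw [← hnat, hy]
  rw [LinearEquiv.apply_symm_apply] at h1
  exact (congrArg Subtype.val h1).symm

variable {M : Type u} [AddCommGroup M] [Module R M] {τ : Type u} [SetLike τ M] [AddSubgroupClass τ M]
  (ℳ : ι → τ) [DirectSum.Decomposition ℳ] [SetLike.GradedSMul 𝒜 ℳ] (a : HomogeneousIdeal 𝒜)

/-- A resolution in the graded category by `Γ_a`-acyclic objects. -/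
structure AcyRes where
  X : ℕ → GrLC.GMod.{u} 𝒜
  d : ∀ n : ℕ, (X n).carrier →ₗ[R] (X (n + 1)).carrier
  ε : M →ₗ[R] (X 0).carrier
  d_grHom : ∀ n : ℕ, GrLC.IsGrHom (X n).gr (X (n + 1)).gr (d n)
  ε_grHom : GrLC.IsGrHom ℳ (X 0).gr ε
  ε_injective : Function.Injective ε
  exact_zero : LinearMap.ker (d 0) = LinearMap.range ε
  exact_succ : ∀ n : ℕ, LinearMap.ker (d (n + 1)) = LinearMap.range (d n)
  acyclic : ∀ n i : ℕ, Subsingleton (LocCoh.H a.toIdeal (i + 1) (X n).carrier)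

variable {ℳ a} (K : AcyRes ℳ a)

/-- The cocycles of the torsion complex. -/
def AcyRes.cocyc (i : ℕ) : Submodule R (K.X i).carrier :=
  GrLC.gam a.toIdeal (K.X i).carrier ⊓ LinearMap.ker (K.d i)

/-- The coboundaries of the torsion complex. -/
def AcyRes.cobdy : ∀ i : ℕ, Submodule R (K.X i).carrier
  | 0 => ⊥
  | i + 1 => (GrLC.gam a.toIdeal (K.X i).carrier).map (K.d i)

lemma AcyRes.d_d (i : ℕ) (x : (K.X i).carrier) : K.d (i + 1) (K.d i x) = 0 := by
  have : K.d i x ∈ LinearMap.ker (K.d (i + 1)) := by rw [K.exact_succ]; exact LinearMap.mem_range_self _ _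
  exact this

lemma AcyRes.d_ε (m : M) : K.d 0 (K.ε m) = 0 := by
  have : K.ε m ∈ LinearMap.ker (K.d 0) := by rw [K.exact_zero]; exact LinearMap.mem_range_self _ _
  exact this

variable (F : GrLC.StarInjRes 𝒜 ℳ)

/-- A comparison map into a *injective resolution. -/
structure CMap where
  ψ : ∀ i, (K.X i).carrier →ₗ[R] (F.X i).carrier
  gr : ∀ i, GrLC.IsGrHom (K.X i).gr (F.X i).gr (ψ i)
  ε : ∀ m, ψ 0 (K.ε m) = F.ε m
  comm : ∀ i x, ψ (i + 1) (K.d i x) = F.d i (ψ i x)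

theorem exists_cmap : Nonempty (CMap K F) := by
  obtain ⟨φ0, hφ0, hφ0'⟩ := exists_extend (A := objOf 𝒜 ℳ) (F.starInj 0) (f := K.ε) K.ε_grHom (g := F.ε) F.ε_grHom
    (fun x hx => by rw [K.ε_injective ((LinearMap.mem_ker.1 hx).trans (map_zero K.ε).symm)]; exact Submodule.zero_mem _)
  let T : ℕ → Type u := fun i => {φ : (K.X i).carrier →ₗ[R] (F.X i).carrier //
    GrLC.IsGrHom (K.X i).gr (F.X i).gr φ ∧ LinearMap.ker (K.d i) ≤ LinearMap.ker (F.d i ∘ₗ φ)}
  have step : ∀ i (φ : T i), ∃ ψ : T (i + 1), ∀ x, ψ.1 (K.d i x) = F.d i (φ.1 x) := by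
    rintro i ⟨φ, hφ, hk⟩
    obtain ⟨ψ, hψ, hψ'⟩ := exists_extend (F.starInj (i + 1)) (f := K.d i) (K.d_grHom i) (g := F.d i ∘ₗ φ)
      (fun e x hx => F.d_grHom i e _ (hφ e x hx)) hk
    refine ⟨⟨ψ, hψ, ?_⟩, fun x => LinearMap.congr_fun hψ' x⟩
    rw [K.exact_succ i]
    rintro _ ⟨w, rfl⟩
    show F.d (i + 1) (ψ (K.d i w)) = 0
    rw [show ψ (K.d i w) = F.d i (φ w) from LinearMap.congr_fun hψ' w, GrLCLib.d_d]
  let Φ : ∀ i, T i := fun i => Nat.rec (⟨φ0, hφ0, by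
    rw [K.exact_zero]
    rintro _ ⟨m, rfl⟩
    show F.d 0 (φ0 (K.ε m)) = 0
    rw [show φ0 (K.ε m) = F.ε m from LinearMap.congr_fun hφ0' m, GrLCLib.d_ε]⟩ : T 0)
    (fun i φ => (step i φ).choose) i
  exact ⟨⟨fun i => (Φ i).1, fun i => (Φ i).2.1, fun m => LinearMap.congr_fun hφ0' m,
    fun i x => (step i (Φ i)).choose_spec x⟩⟩

variable {K F} (c : CMap K F)

/-- The differential of the cone. -/
def CMap.coneD (i : ℕ) :
    (K.X (i + 1)).carrier × (F.X i).carrier →ₗ[R] (K.X (i + 1 + 1)).carrier × (F.X (i + 1)).carrier :=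
  (K.d (i + 1) ∘ₗ LinearMap.fst R _ _).prod (c.ψ (i + 1) ∘ₗ LinearMap.fst R _ _ - F.d i ∘ₗ LinearMap.snd R _ _)

/-- The first map of the cone. -/
def CMap.cone0 : (K.X 0).carrier →ₗ[R] (K.X 1).carrier × (F.X 0).carrier := (K.d 0).prod (c.ψ 0)

lemma CMap.coneD_apply (i : ℕ) (p : (K.X (i + 1)).carrier × (F.X i).carrier) :
    c.coneD i p = (K.d (i + 1) p.1, c.ψ (i + 1) p.1 - F.d i p.2) := rfl

lemma CMap.range_cone0 : LinearMap.range c.cone0 = LinearMap.ker (c.coneD 0) := by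
  refine le_antisymm ?_ ?_
  · rintro _ ⟨v, rfl⟩
    rw [LinearMap.mem_ker, CMap.coneD_apply]
    exact Prod.ext (K.d_d 0 v) (sub_eq_zero.2 (c.comm 0 v))
  · rintro ⟨v, w⟩ h
    rw [LinearMap.mem_ker, CMap.coneD_apply, Prod.mk_eq_zero] at h
    obtain ⟨h1, h2⟩ := h
    obtain ⟨v₀, rfl⟩ : v ∈ LinearMap.range (K.d 0) := by rw [← K.exact_succ]; exact h1
    obtain ⟨m, hm⟩ : c.ψ 0 v₀ - w ∈ LinearMap.range F.ε := by
      rw [← F.exact_zero, LinearMap.mem_ker, map_sub, ← c.comm]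
      exact h2
    refine ⟨v₀ - K.ε m, Prod.ext ?_ ?_⟩
    · show K.d 0 (v₀ - K.ε m) = K.d 0 v₀
      rw [map_sub, K.d_ε, sub_zero]
    · show c.ψ 0 (v₀ - K.ε m) = w
      rw [map_sub, c.ε, hm]; abel

lemma CMap.cone0_injective : Function.Injective c.cone0 := by
  refine (injective_iff_map_eq_zero _).2 fun v hv => ?_
  obtain ⟨h1, h2⟩ := Prod.mk_eq_zero.1 (show ((K.d 0 v, c.ψ 0 v) : _ × _) = 0 from hv)
  obtain ⟨m, rfl⟩ : v ∈ LinearMap.range K.ε := by rw [← K.exact_zero]; exact h1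
  rw [c.ε] at h2
  rw [F.ε_injective (h2.trans (map_zero F.ε).symm), map_zero]

lemma CMap.range_coneD (i : ℕ) : LinearMap.range (c.coneD i) = LinearMap.ker (c.coneD (i + 1)) := by
  refine le_antisymm ?_ ?_
  · rintro _ ⟨⟨v, w⟩, rfl⟩
    rw [LinearMap.mem_ker, CMap.coneD_apply, CMap.coneD_apply]
    refine Prod.ext (K.d_d _ _) ?_
    show c.ψ (i + 1 + 1) (K.d (i + 1) v) - F.d (i + 1) (c.ψ (i + 1) v - F.d i w) = 0
    rw [c.comm, map_sub, GrLCLib.d_d, sub_zero, sub_self]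
  · rintro ⟨v, w⟩ h
    rw [LinearMap.mem_ker, CMap.coneD_apply, Prod.mk_eq_zero] at h
    obtain ⟨h1, h2⟩ := h
    obtain ⟨v₀, rfl⟩ : v ∈ LinearMap.range (K.d (i + 1)) := by rw [← K.exact_succ]; exact h1
    obtain ⟨w', hw'⟩ : c.ψ (i + 1) v₀ - w ∈ LinearMap.range (F.d i) := by
      rw [← F.exact_succ, LinearMap.mem_ker, map_sub, ← c.comm]
      exact h2
    refine ⟨(v₀, w'), ?_⟩
    rw [CMap.coneD_apply]
    exact Prod.ext rfl (by rw [hw']; exact sub_sub_cancel _ _)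

lemma acyclic_prod (K : AcyRes ℳ a) (F : GrLC.StarInjRes 𝒜 ℳ) (i j : ℕ) :
    Subsingleton (LocCoh.H a.toIdeal (j + 1) ((K.X (i + 1)).carrier × (F.X i).carrier)) :=
  subsingleton_H_prod a.toIdeal (j + 1) (K.acyclic (i + 1) j)
    (subsingleton_localCohomology_starInj 𝒜 a (F.starInj i) j)

lemma CMap.acyclic_ker : ∀ i j : ℕ, Subsingleton (LocCoh.H a.toIdeal (j + 1) ↥(LinearMap.ker (c.coneD i))) := by
  intro i
  induction i with
  | zero =>
    intro j
    let e : (K.X 0).carrier ≃ₗ[R] ↥(LinearMap.ker (c.coneD 0)) :=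
      LinearEquiv.ofInjective c.cone0 c.cone0_injective ≪≫ₗ LinearEquiv.ofEq _ _ c.range_cone0
    let w := ((localCohomology a.toIdeal (j + 1)).mapIso e.toModuleIso).toLinearEquiv
    haveI : Subsingleton ↑((localCohomology a.toIdeal (j + 1)).obj (ModuleCat.of R (K.X 0).carrier)) := K.acyclic 0 j
    exact w.symm.toEquiv.subsingleton
  | succ i ih =>
    intro j
    let g : (K.X (i + 1)).carrier × (F.X i).carrier →ₗ[R] ↥(LinearMap.ker (c.coneD (i + 1))) :=
      (c.coneD i).codRestrict _ fun p => c.range_coneD i ▸ LinearMap.mem_range_self _ p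
    let S : ShortComplex (ModuleCat.{u} R) :=
      ShortComplex.mk (X₁ := ModuleCat.of R ↥(LinearMap.ker (c.coneD i)))
        (X₂ := ModuleCat.of R ((K.X (i + 1)).carrier × (F.X i).carrier))
        (X₃ := ModuleCat.of R ↥(LinearMap.ker (c.coneD (i + 1))))
        (ModuleCat.ofHom (LinearMap.ker (c.coneD i)).subtype) (ModuleCat.ofHom g) (ModuleCat.hom_ext (LinearMap.ext fun x => Subtype.ext x.2))
    have hS : S.ShortExact :=
      { exact := by
          rw [ShortComplex.moduleCat_exact_iff]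
          intro y hy
          exact ⟨⟨y, congrArg Subtype.val hy⟩, rfl⟩
        mono_f := (ModuleCat.mono_iff_injective _).2 (LinearMap.ker (c.coneD i)).injective_subtype
        epi_g := (ModuleCat.epi_iff_surjective _).2 fun (y : ↥(LinearMap.ker (c.coneD (i + 1)))) => by
          obtain ⟨x, hx⟩ : y.1 ∈ LinearMap.range (c.coneD i) := by rw [c.range_coneD]; exact y.2
          exact ⟨x, Subtype.ext hx⟩ }
    exact LocH.subsingleton_X₃ hS (j + 1) (acyclic_prod K F i j) (ih (j + 1))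

/-- A torsion cycle of the cone is the boundary of a torsion element. -/
lemma CMap.exists_boundary (i : ℕ) {v : (K.X (i + 1 + 1)).carrier} {w : (F.X (i + 1)).carrier}
    (hv : v ∈ GrLC.gam a.toIdeal (K.X (i + 1 + 1)).carrier) (hw : w ∈ GrLC.gam a.toIdeal (F.X (i + 1)).carrier)
    (h1 : K.d (i + 1 + 1) v = 0) (h2 : c.ψ (i + 1 + 1) v = F.d (i + 1) w) :
    ∃ v₀ ∈ GrLC.gam a.toIdeal (K.X (i + 1)).carrier, ∃ w₀ ∈ GrLC.gam a.toIdeal (F.X i).carrier,
      K.d (i + 1) v₀ = v ∧ c.ψ (i + 1) v₀ - F.d i w₀ = w := by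
  let g : (K.X (i + 1)).carrier × (F.X i).carrier →ₗ[R] ↥(LinearMap.ker (c.coneD (i + 1))) :=
    (c.coneD i).codRestrict _ fun p => c.range_coneD i ▸ LinearMap.mem_range_self _ p
  have hb : ((v, w) : _ × _) ∈ LinearMap.ker (c.coneD (i + 1)) := by
    rw [LinearMap.mem_ker, CMap.coneD_apply]
    exact Prod.ext h1 (sub_eq_zero.2 h2)
  have hbg : (⟨(v, w), hb⟩ : ↥(LinearMap.ker (c.coneD (i + 1)))) ∈
      GrLC.gam a.toIdeal ↥(LinearMap.ker (c.coneD (i + 1))) := by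
    refine mem_gam_of_injective (Submodule.injective_subtype _) ?_
    have := add_mem (map_mem_gam (LinearMap.inl R _ (F.X (i + 1)).carrier) hv)
      (map_mem_gam (LinearMap.inr R (K.X (i + 1 + 1)).carrier _) hw)
    simpa using this
  obtain ⟨p, hp, hp'⟩ := exists_gam_lift a.toIdeal g
    (fun y => by
      obtain ⟨x, hx⟩ : y.1 ∈ LinearMap.range (c.coneD i) := by rw [c.range_coneD]; exact y.2
      exact ⟨x, Subtype.ext hx⟩)
    (LinearMap.ker_codRestrict _ _ _) (c.acyclic_ker i 0) hbg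
  have h3 := congrArg Subtype.val hp'
  exact ⟨p.1, map_mem_gam (LinearMap.fst R _ _) hp, p.2, map_mem_gam (LinearMap.snd R _ _) hp,
    congrArg Prod.fst h3, congrArg Prod.snd h3⟩

lemma CMap.exists_boundary_zero {v : (K.X 1).carrier} {w : (F.X 0).carrier}
    (hv : v ∈ GrLC.gam a.toIdeal (K.X 1).carrier) (hw : w ∈ GrLC.gam a.toIdeal (F.X 0).carrier)
    (h1 : K.d 1 v = 0) (h2 : c.ψ 1 v = F.d 0 w) :
    ∃ v₀ ∈ GrLC.gam a.toIdeal (K.X 0).carrier, K.d 0 v₀ = v ∧ c.ψ 0 v₀ = w := by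
  obtain ⟨v₀, h⟩ : ((v, w) : _ × _) ∈ LinearMap.range c.cone0 := by
    rw [c.range_cone0, LinearMap.mem_ker, CMap.coneD_apply]
    exact Prod.ext h1 (sub_eq_zero.2 h2)
  refine ⟨v₀, mem_gam_of_injective c.cone0_injective ?_, congrArg Prod.fst h, congrArg Prod.snd h⟩
  rw [h]
  have := add_mem (map_mem_gam (LinearMap.inl R _ (F.X 0).carrier) hv)
    (map_mem_gam (LinearMap.inr R (K.X 1).carrier _) hw)
  simpa using this

lemma CMap.map_cocyc {i : ℕ} {z : (K.X i).carrier} (hz : z ∈ K.cocyc i) : c.ψ i z ∈ F.cocyc a i :=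
  ⟨map_mem_gam _ hz.1, by
    show F.d i (c.ψ i z) = 0
    rw [← c.comm, show K.d i z = 0 from hz.2, map_zero]⟩

lemma CMap.map_cobdy_iff : ∀ {i : ℕ} {z : (K.X i).carrier}, z ∈ K.cocyc i →
    (c.ψ i z ∈ F.cobdy a i ↔ z ∈ K.cobdy i)
  | 0, z, hz => by
    constructor
    · intro h
      refine (Submodule.mem_bot R).2 (c.cone0_injective ?_)
      rw [map_zero]
      exact Prod.ext hz.2 ((Submodule.mem_bot R).1 h)
    · intro h
      rw [(Submodule.mem_bot R).1 h, map_zero]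
      exact Submodule.zero_mem _
  | 1, z, hz => by
    constructor
    · rintro ⟨w, hw, hwz⟩
      obtain ⟨v₀, hv₀, h1, -⟩ := c.exists_boundary_zero hz.1 hw hz.2 hwz.symm
      exact ⟨v₀, hv₀, h1⟩
    · rintro ⟨y, hy, rfl⟩
      exact ⟨c.ψ 0 y, map_mem_gam _ hy, (c.comm 0 y).symm⟩
  | i + 2, z, hz => by
    constructor
    · rintro ⟨w, hw, hwz⟩
      obtain ⟨v₀, hv₀, _, _, h1, -⟩ := c.exists_boundary i hz.1 hw hz.2 hwz.symm
      exact ⟨v₀, hv₀, h1⟩
    · rintro ⟨y, hy, rfl⟩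
      exact ⟨c.ψ (i + 1) y, map_mem_gam _ hy, (c.comm (i + 1) y).symm⟩

lemma CMap.exists_cocyc_sub : ∀ {i : ℕ} {u : (F.X i).carrier}, u ∈ F.cocyc a i →
    ∃ z ∈ K.cocyc i, u - c.ψ i z ∈ F.cobdy a i
  | 0, u, hu => by
    obtain ⟨v₀, hv₀, h1, h2⟩ := c.exists_boundary_zero (v := 0) (Submodule.zero_mem _) hu.1 (map_zero _)
      (by rw [map_zero]; exact hu.2.symm)
    exact ⟨v₀, ⟨hv₀, h1⟩, by rw [h2, sub_self]; exact Submodule.zero_mem _⟩
  | i + 1, u, hu => by
    obtain ⟨v₀, hv₀, w₀, hw₀, h1, h2⟩ := c.exists_boundary i (v := 0) (Submodule.zero_mem _) hu.1 (map_zero _)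
      (by rw [map_zero]; exact hu.2.symm)
    exact ⟨v₀, ⟨hv₀, h1⟩, -w₀, Submodule.neg_mem _ hw₀, by rw [map_neg, ← h2]; abel⟩

/-- The comparison is surjective on classes of each degree. -/
theorem CMap.exists_homog_cocyc_sub {i : ℕ} {g : ι} {u : (F.X i).carrier} (hug : u ∈ (F.X i).gr g)
    (hu : u ∈ F.cocyc a i) : ∃ z ∈ (K.X i).gr g, z ∈ K.cocyc i ∧ u - c.ψ i z ∈ F.cobdy a i := by
  obtain ⟨z, hz, h⟩ := c.exists_cocyc_sub hu
  refine ⟨pr (K.X i).gr g z, pr_mem _ g z, ⟨homog_gam 𝒜 a z hz.1 g, homog_ker _ _ (K.d_grHom i) z hz.2 g⟩, ?_⟩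
  have h1 := homog_cobdy F a i _ h g
  rwa [map_sub, pr_of_mem _ hug, pr_map _ _ (c.gr i)] at h1

end Groth.Agent.GrLCVeronese
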