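import Groth.Agent.GrLCVeronese.Basic
import Groth.Agent.GrLCLib.Acyclic
import Groth.Agent.LocH.ChangeRings
import Groth.Agent.LocH.Radical
import Groth.Agent.Easy3.NormFlat

/-!
Torsion and acyclicity of Veronese modules.
-/

set_option autoImplicit false
set_option linter.unusedSectionVars false
set_option linter.style.haveILetI false
set_option backward.isDefEq.respectTransparency false
set_option backward.isDefEq.respectTransparency.types false
universe u

open scoped Classical
open DirectSum CategoryTheory Groth.Agent.GrLCLib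

noncomputable section

namespace Groth.Agent.GrLCVeronese

variable {R : Type u} [CommRing R] [IsNoetherianRing R] {𝒜 : ℤ → AddSubgroup R} [GradedRing 𝒜]
  {R' : Type u} [CommRing R'] {𝒜' : ℤ → AddSubgroup R'} [GradedRing 𝒜']
  (D : Datum 𝒜 𝒜') (m : HomogeneousIdeal 𝒜) (m' : HomogeneousIdeal 𝒜')
  (hm : m.toIdeal = Ideal.span (⋃ n ∈ Set.Ioi (0 : ℤ), (𝒜 n : Set R)))
  (hm' : m'.toIdeal = Ideal.span (⋃ n ∈ Set.Ioi (0 : ℤ), (𝒜' n : Set R')))

include hm hm'

lemma map_le : m'.toIdeal.map D.φ ≤ m.toIdeal := by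
  rw [Ideal.map_le_iff_le_comap, hm', Ideal.span_le]
  intro a ha
  simp only [Set.mem_iUnion, Set.mem_Ioi] at ha
  obtain ⟨j, hj, ha⟩ := ha
  show D.φ a ∈ m.toIdeal
  rw [hm]
  refine Ideal.subset_span (Set.mem_iUnion₂.2 ⟨j * D.q, ?_, D.map_mem ha⟩)
  exact mul_pos hj (Int.natCast_pos.2 D.hq)

lemma le_radical_map : m.toIdeal ≤ (m'.toIdeal.map D.φ).radical := by
  rw [hm, Ideal.span_le]
  intro r hr
  simp only [Set.mem_iUnion, Set.mem_Ioi] at hr
  obtain ⟨d, hd, hr⟩ := hr
  refine ⟨D.q, ?_⟩
  obtain ⟨a, ha, hae⟩ := D.exists_preimage (j := d) (r := r ^ D.q) (by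
    have := SetLike.pow_mem_graded D.q hr
    rwa [nsmul_eq_mul, mul_comm] at this)
  rw [← hae]
  refine Ideal.mem_map_of_mem _ ?_
  rw [hm']
  exact Ideal.subset_span (Set.mem_iUnion₂.2 ⟨d, hd, ha⟩)

lemma mem_gam_vero_iff (X : GrLC.GMod.{u} 𝒜) (x : (veroObj D X).carrier) :
    x ∈ GrLC.gam m'.toIdeal (veroObj D X).carrier ↔ vval D X x ∈ GrLC.gam m.toIdeal X.carrier := by
  constructor
  · rintro ⟨N, hN⟩
    obtain ⟨k, hk⟩ := Ideal.exists_pow_le_of_le_radical_of_fg (le_radical_map D m m' hm hm')
      (IsNoetherian.noetherian _)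
    refine ⟨k * N, fun r hr => ?_⟩
    have h1 : r ∈ (m'.toIdeal ^ N).map D.φ := by
      rw [Ideal.map_pow]
      exact Ideal.pow_right_mono hk N (by rwa [← pow_mul])
    clear hr
    induction h1 using Submodule.span_induction with
    | mem s hs =>
      obtain ⟨a, ha, rfl⟩ := hs
      exact (vval_smul D X a x).symm.trans ((congrArg (vval D X) (hN a ha)).trans (map_zero _))
    | zero => exact zero_smul _ _
    | add s t _ _ hs ht =>
      rw [add_smul, hs, ht, add_zero]
    | smul t s _ hs => rw [smul_eq_mul, mul_smul, hs, smul_zero]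
  · rintro ⟨N, hN⟩
    refine ⟨N, fun a ha => vval_injective D X ?_⟩
    rw [map_zero]
    refine (vval_smul D X a x).trans (hN _ (Ideal.pow_right_mono (map_le D m m' hm hm') N ?_))
    rw [← Ideal.map_pow]
    exact Ideal.mem_map_of_mem _ ha

theorem subsingleton_localCohomology_vero {X : GrLC.GMod.{u} 𝒜} (hX : GrLC.IsStarInj 𝒜 X.gr) (i : ℕ) :
    Subsingleton (LocCoh.H m'.toIdeal (i + 1) (veroObj D X).carrier) := by
  haveI := isNoetherianRing D
  letI : Algebra R' R := D.φ.toAlgebra
  letI : Module R' X.carrier := Module.compHom X.carrier D.φ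
  haveI : IsScalarTower R' R X.carrier := IsScalarTower.of_algebraMap_smul fun _ _ => rfl
  have h1 : Subsingleton (LocCoh.H (m'.toIdeal.map (algebraMap R' R)) (i + 1) X.carrier) := by
    refine (LocH.subsingleton_iff_of_radical_eq (I := m'.toIdeal.map (algebraMap R' R)) (K := m.toIdeal) ?_
      X.carrier (i + 1)).2 (subsingleton_localCohomology_starInj 𝒜 m hX i)
    exact le_antisymm (Ideal.radical_mono (map_le D m m' hm hm'))
      (Ideal.radical_le_radical_iff.2 (le_radical_map D m m' hm hm'))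
  obtain ⟨φ, -⟩ := LocH.exists_semilinearEquiv (R := R') (R' := R) m'.toIdeal (i + 1) X.carrier
  have h2 : Subsingleton (LocCoh.H m'.toIdeal (i + 1) X.carrier) :=
    haveI := h1
    φ.symm.toEquiv.subsingleton
  let s : (veroObj D X).carrier →ₗ[R'] X.carrier :=
    { toFun := vval D X
      map_add' := map_add (vval D X)
      map_smul' := fun a x => vval_smul D X a x }
  let p : X.carrier →ₗ[R'] (veroObj D X).carrier :=
    { toFun := vmk D X
      map_add' := fun x y => vval_injective D X (map_add (vproj D X.gr) x y)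
      map_smul' := fun a x => vval_injective D X (vproj_smul D X.gr a x) }
  exact Easy3.NormFlat.subsingleton_of_retract (i + 1) s p
    (LinearMap.ext fun x => vval_injective D X (Subtype.prop (p := fun y => y ∈ vset D X.gr) x)) h2

end Groth.Agent.GrLCVeronese
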