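import Groth.Agent.GrLCVeronese.HMap
import Groth.Agent.GrCanon.Degree

/-!
Graded duality pairing of a *canonical module over a field in degree zero; Veronese subrings.
-/

set_option autoImplicit false
set_option linter.unusedSectionVars false
set_option linter.style.haveILetI false
set_option backward.isDefEq.respectTransparency false
set_option backward.isDefEq.respectTransparency.types false
universe u

open scoped Classical
open DirectSum Groth.Agent.GrLCLib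

noncomputable section

namespace Groth.Agent.GrLCVeronese.Canon

variable {R : Type u} [CommRing R] [IsNoetherianRing R] {𝒜 : ℤ → AddSubgroup R} [GradedRing 𝒜]
  {m : HomogeneousIdeal 𝒜}
  {E' : Type u} [AddCommGroup E'] [Module R E'] {𝓔 : ℤ → AddSubgroup E'} [DirectSum.Decomposition 𝓔]
  [SetLike.GradedSMul 𝒜 𝓔] {e : (R ⧸ m.toIdeal) →ₗ[R] E'}
  {C : Type u} [AddCommGroup C] [Module R C] {𝒞 : ℤ → AddSubgroup C} [DirectSum.Decomposition 𝒞]
  [SetLike.GradedSMul 𝒜 𝒞] {n : ℕ} {I : GrLC.StarInjRes 𝒜 𝒜}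

local notation "R₀" => GrLC.deg0 𝒜

lemma hgr_smul {e' g : ℤ} {r : R} (hr : r ∈ 𝒜 e') {h : I.H m n} (hh : h ∈ I.Hgr m n g) :
    r • h ∈ I.Hgr m n (e' + g) := by
  obtain ⟨z, hz, rfl⟩ := hh
  exact ⟨r • z, SetLike.GradedSMul.smul_mem (A := 𝒜) (B := (I.X n).gr) hr hz, map_smul (I.toH m n) r z⟩

/-- Everything the duality pairing provides. -/
theorem exists_pairing (hpos : ∀ k : ℤ, k < 0 → 𝒜 k = ⊥) (h0 : IsField R₀) (hm : GrLC.IsStarLocal 𝒜 m)
    (he : GrLC.IsStarInjHull 𝒜 (GrLC.quotGr 𝒜 m) 𝓔 e) (hC : GrLC.IsStarCanonical 𝒜 𝒞 𝓔 m n I) :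
    ∃ β : C →ₗ[R₀] I.H m n →ₗ[R₀] R₀,
      (∀ (r : R) (x : C) (h : I.H m n), β (r • x) h = β x (r • h)) ∧
      (∀ j : ℤ, ∀ x ∈ 𝒞 j, (∀ h ∈ I.Hgr m n (-j), β x h = 0) → x = 0) ∧
      (∀ (j : ℤ) (L : I.H m n →ₗ[R₀] R₀), ∃ x ∈ 𝒞 j, ∀ h ∈ I.Hgr m n (-j), β x h = L h) := by
  obtain ⟨hfin, φ, hφ⟩ := hC
  haveI := hfin
  letI : Field R₀ := h0.toField
  let ψ : R₀ →ₗ[R₀] E' :=
    { toFun := fun c => e (Ideal.Quotient.mk m.toIdeal (c : R))
      map_add' := fun a b => by rw [Subring.coe_add, map_add, map_add]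
      map_smul' := fun a b => by
        show e (Ideal.Quotient.mk m.toIdeal ((a : R) * b)) = (a : R) • e (Ideal.Quotient.mk m.toIdeal (b : R))
        rw [← map_smul]
        rfl }
  have hψ : Function.Injective ψ := (injective_iff_map_eq_zero ψ).2 fun c hc => by
    by_contra hne
    have h1 : (c : R) ∈ m.toIdeal :=
      Ideal.Quotient.eq_zero_iff_mem.1 (he.injective (hc.trans (map_zero e).symm))
    obtain ⟨d, hd⟩ := h0.mul_inv_cancel hne
    refine hm.1.1 (HomogeneousIdeal.toIdeal_injective (((Ideal.eq_top_iff_one _).2 ?_).trans HomogeneousIdeal.toIdeal_top.symm))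
    have := m.toIdeal.mul_mem_right (d : R) h1
    rwa [← Subring.coe_mul, hd, Subring.coe_one] at this
  -- the degree zero piece of the hull
  have hE0 : ∀ y ∈ 𝓔 0, ∃ c : R₀, ψ c = y := fun y hy => by
    by_cases hy0 : y = 0
    · exact ⟨0, by rw [map_zero, hy0]⟩
    have hP := he.essential (Submodule.span R {y})
      ((GrLCHull.homog_iff 𝓔).2 (GrLCHull.homog_span_singleton 𝒜 𝓔 hy))
      (fun h => hy0 ((Submodule.span_singleton_eq_bot).1 h))
    obtain ⟨z, hz, hz0⟩ := Submodule.exists_mem_ne_zero_of_ne_bot hP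
    obtain ⟨t, rfl⟩ := Submodule.mem_span_singleton.1 hz.1
    obtain ⟨q, hq⟩ := hz.2
    obtain ⟨q, rfl⟩ := Ideal.Quotient.mk_surjective q
    rw [show Ideal.Quotient.mk m.toIdeal q = Ideal.Quotient.mk m.toIdeal (pr 𝒜 0 q) from
      Ideal.Quotient.eq.2 (sub_pr_zero_mem hpos hm q)] at hq
    have hmem : t • y ∈ 𝓔 0 := hq ▸ he.grHom 0 _ ⟨_, pr_mem 𝒜 0 q, rfl⟩
    have h2 : pr 𝒜 0 t • y = t • y := by
      rw [← pr_of_mem 𝓔 hmem, pr_smul_left 𝒜 𝓔 hy, sub_zero]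
    let t₀ : R₀ := ⟨pr 𝒜 0 t, pr_mem 𝒜 0 t⟩
    have ht₀ : t₀ ≠ 0 := fun h => hz0 (by
      rw [← h2, show pr 𝒜 0 t = 0 from congrArg Subtype.val h, zero_smul])
    refine ⟨t₀⁻¹ * ⟨pr 𝒜 0 q, pr_mem 𝒜 0 q⟩, ?_⟩
    rw [← smul_eq_mul, map_smul]
    show t₀⁻¹ • e (Ideal.Quotient.mk m.toIdeal (pr 𝒜 0 q)) = y
    rw [hq, ← h2]
    show t₀⁻¹ • t₀ • y = y
    rw [inv_smul_smul₀ ht₀]
  obtain ⟨χ, hχ⟩ := LinearMap.exists_leftInverse_of_injective ψ (LinearMap.ker_eq_bot.2 hψ)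
  have hχψ : ∀ y ∈ 𝓔 0, ψ (χ y) = y := fun y hy => by
    obtain ⟨c, rfl⟩ := hE0 y hy
    rw [show χ (ψ c) = c from LinearMap.congr_fun hχ c]
  let β : C →ₗ[R₀] I.H m n →ₗ[R₀] R₀ :=
    LinearMap.mk₂ R₀ (fun x h => χ (φ.symm h x))
      (fun x y h => by rw [map_add, map_add])
      (fun c x h => by rw [show φ.symm h (c • x) = c • φ.symm h x from map_smul (φ.symm h) (c : R) x, map_smul])
      (fun x a b => by rw [map_add, LinearMap.add_apply, map_add])
      (fun c x h => by rw [show φ.symm (c • h) x = c • φ.symm h x from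
        LinearMap.congr_fun (map_smul φ.symm (c : R) h) x, map_smul])
  refine ⟨β, fun r x h => ?_, ?_⟩
  · show χ (φ.symm h (r • x)) = χ (φ.symm (r • h) x)
    exact congrArg χ (((φ.symm h).map_smul r x).trans (LinearMap.congr_fun (map_smul φ.symm r h).symm x))
  -- homogeneous homomorphisms
  have hsurj : ∀ d : ℤ, ∀ h ∈ I.Hgr m n d, φ.symm h ∈ GrLC.homDeg 𝒜 𝒞 𝓔 d := by
    intro d h hh
    letI := (isInternal_Hgr I m n).chooseDecomposition
    let A₀ := GrLC.GMod.of 𝒜 C 𝒞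
    let B₀ := GrLC.GMod.of 𝒜 E' 𝓔
    have hparts : ∀ δ : ℤ, ∃ f' : C →ₗ[R] E', ∀ g, ∀ x ∈ 𝒞 g, f' x = pr 𝓔 (g + δ) (φ.symm h x) :=
      fun δ => exists_degPart A₀ B₀ (φ.symm h) δ
    choose F' hF' using hparts
    have hdeg : ∀ δ, (F' δ : C →ₗ[R] E') ∈ GrLC.homDeg 𝒜 𝒞 𝓔 δ := fun δ g x hx => by
      show F' δ x ∈ 𝓔 (g + δ)
      exact hF' δ g x hx ▸ pr_mem 𝓔 _ _
    obtain ⟨t, dd, y, hy, hys⟩ := exists_homog_spanning (R := R) 𝒞
    let Δ : Finset ℤ := Finset.univ.biUnion fun i =>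
      (DirectSum.decompose 𝓔 (φ.symm h (y i))).support.image fun g => g - dd i
    have hsum : φ.symm h = ∑ δ ∈ Δ, (F' δ : C →ₗ[R] E') := LinearMap.ext_on_range hys fun i => by
      rw [LinearMap.sum_apply]
      symm
      calc ∑ δ ∈ Δ, (F' δ : C →ₗ[R] E') (y i) = ∑ δ ∈ Δ, pr 𝓔 (dd i + δ) (φ.symm h (y i)) :=
            Finset.sum_congr rfl fun δ _ => hF' δ _ _ (hy i)
        _ = ∑ δ ∈ (DirectSum.decompose 𝓔 (φ.symm h (y i))).support.image (fun g => g - dd i),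
            pr 𝓔 (dd i + δ) (φ.symm h (y i)) := by
          refine (Finset.sum_subset (Finset.subset_biUnion_of_mem (fun i =>
            (DirectSum.decompose 𝓔 (φ.symm h (y i))).support.image fun g => g - dd i) (Finset.mem_univ i))
            fun δ _ hδ => ?_).symm
          by_contra h'
          refine hδ (Finset.mem_image.2 ⟨dd i + δ, DFinsupp.mem_support_iff.2 fun h0 => h' (congrArg Subtype.val h0), ?_⟩)
          abel
        _ = φ.symm h (y i) := by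
          rw [Finset.sum_image fun a _ b _ hab => sub_left_inj.1 hab]
          refine (Finset.sum_congr rfl fun g _ => ?_).trans (sum_pr 𝓔 (φ.symm h (y i)))
          rw [add_sub_cancel]
    have h1 : pr (I.Hgr m n) d h = ∑ δ ∈ Δ, pr (I.Hgr m n) d (φ (F' δ : C →ₗ[R] E')) := by
      rw [← _root_.map_sum (pr (I.Hgr m n) d), ← _root_.map_sum φ, ← hsum, φ.apply_symm_apply]
    rw [pr_of_mem _ hh] at h1
    have h2 : φ.symm h = if d ∈ Δ then (F' d : C →ₗ[R] E') else 0 := by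
      refine φ.injective (φ.apply_symm_apply h |>.trans (h1.trans ?_))
      rw [apply_ite φ, map_zero]
      split_ifs with hd
      · exact (Finset.sum_eq_single d (fun δ _ hne => pr_of_mem_ne _ (hφ δ _ (hdeg δ)) hne)
          (fun h => absurd hd h)).trans (pr_of_mem _ (hφ d _ (hdeg d)))
      · exact Finset.sum_eq_zero fun δ hδ => pr_of_mem_ne _ (hφ δ _ (hdeg δ)) fun hh => hd (hh ▸ hδ)
    rw [h2]
    split_ifs
    · exact hdeg d
    · exact zero_mem _
  have hβψ : ∀ j : ℤ, ∀ x ∈ 𝒞 j, ∀ h ∈ I.Hgr m n (-j), ψ (β x h) = φ.symm h x := fun j x hx h hh => by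
    refine hχψ _ ?_
    have h1 := hsurj (-j) h hh j x hx
    rwa [add_neg_cancel] at h1
  -- a homomorphism of degree `d` is determined on the piece of degree `-d`
  have hdet : ∀ (d : ℤ) (f : C →ₗ[R] E'), f ∈ GrLC.homDeg 𝒜 𝒞 𝓔 d → (∀ x ∈ 𝒞 (-d), f x = 0) → f = 0 := by
    intro d f hf hf0
    refine LinearMap.ext fun x => ?_
    induction x using DirectSum.Decomposition.inductionOn 𝒞 with
    | zero => rw [map_zero]; rfl
    | add a b ha hb => rw [map_add, ha, hb, map_add]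
    | @homogeneous g x =>
      show f (x : C) = 0
      by_contra hy0
      have hy : f (x : C) ∈ 𝓔 (g + d) := hf g x x.2
      have hP := he.essential (Submodule.span R {f (x : C)})
        ((GrLCHull.homog_iff 𝓔).2 (GrLCHull.homog_span_singleton 𝒜 𝓔 hy))
        (fun h => hy0 ((Submodule.span_singleton_eq_bot).1 h))
      obtain ⟨z, hz, hz0⟩ := Submodule.exists_mem_ne_zero_of_ne_bot hP
      obtain ⟨t, rfl⟩ := Submodule.mem_span_singleton.1 hz.1
      obtain ⟨q, hq⟩ := hz.2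
      obtain ⟨q, rfl⟩ := Ideal.Quotient.mk_surjective q
      rw [show Ideal.Quotient.mk m.toIdeal q = Ideal.Quotient.mk m.toIdeal (pr 𝒜 0 q) from
        Ideal.Quotient.eq.2 (sub_pr_zero_mem hpos hm q)] at hq
      have hmem : t • f (x : C) ∈ 𝓔 0 := hq ▸ he.grHom 0 _ ⟨_, pr_mem 𝒜 0 q, rfl⟩
      refine hz0 ?_
      rw [← pr_of_mem 𝓔 hmem, pr_smul_left 𝒜 𝓔 hy, ← map_smul]
      refine hf0 _ ?_
      have h3 := SetLike.GradedSMul.smul_mem (A := 𝒜) (B := 𝒞) (pr_mem 𝒜 (0 - (g + d)) t) x.2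
      rwa [vadd_eq_add, show 0 - (g + d) + g = -d by ring] at h3
  -- extension of functionals
  have hext : ∀ (j : ℤ) (l : C →ₗ[R₀] R₀), ∃ h ∈ I.Hgr m n (-j), ∀ x ∈ 𝒞 j, β x h = l x := by
    intro j l
    let K : Submodule R C := Submodule.span R (𝒞 j : Set C)
    have hK : Homog 𝒞 K := fun x hx g => by
      induction hx using Submodule.span_induction generalizing g with
      | mem b hb =>
        rcases eq_or_ne j g with rfl | hne
        · exact (pr_of_mem 𝒞 hb).symm ▸ Submodule.subset_span hb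
        · rw [pr_of_mem_ne 𝒞 hb hne]; exact zero_mem _
      | zero => rw [map_zero]; exact zero_mem _
      | add a b _ _ ha hb => rw [map_add]; exact add_mem (ha g) (hb g)
      | smul c a _ ha =>
        rw [← sum_pr 𝒜 c, Finset.sum_smul, _root_.map_sum]
        refine Submodule.sum_mem _ fun i _ => ?_
        rw [pr_smul 𝒜 𝒞 (pr_mem 𝒜 i c)]
        exact K.smul_mem _ (ha _)
    have hlow : ∀ x ∈ K, ∀ g < j, pr 𝒞 g x = 0 := fun x hx => by
      induction hx using Submodule.span_induction with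
      | mem b hb => exact fun g hg => pr_of_mem_ne 𝒞 hb hg.ne'
      | zero => exact fun g _ => map_zero _
      | add a b _ _ ha hb => exact fun g hg => by rw [map_add, ha g hg, hb g hg, add_zero]
      | smul c a _ ha =>
        intro g hg
        rw [← sum_pr 𝒜 c, Finset.sum_smul, _root_.map_sum]
        refine Finset.sum_eq_zero fun i _ => ?_
        rw [pr_smul 𝒜 𝒞 (pr_mem 𝒜 i c)]
        rcases lt_or_ge i 0 with hi | hi
        · rw [(hpos i hi).le (pr_mem 𝒜 i c), zero_smul]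
        · rw [ha _ (by omega), smul_zero]
    let u₀ : ↥K → E' := fun x => ψ (l (pr 𝒞 j (x : C)))
    have hu₀add : ∀ x y, u₀ (x + y) = u₀ x + u₀ y := fun x y => by
      simp only [u₀, Submodule.coe_add, map_add]
    have hu₀smul : ∀ (r : R) (x : ↥K), u₀ (r • x) = r • u₀ x := fun r x => by
      have h1 : pr 𝒞 j (r • (x : C)) = pr 𝒜 0 r • pr 𝒞 j (x : C) := by
        conv_lhs => rw [← sum_pr 𝒜 r, Finset.sum_smul, _root_.map_sum]
        rw [Finset.sum_eq_single 0]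
        · rw [pr_smul 𝒜 𝒞 (pr_mem 𝒜 0 r), sub_zero]
        · intro i _ hi
          rw [pr_smul 𝒜 𝒞 (pr_mem 𝒜 i r)]
          rcases lt_or_gt_of_ne hi with hi | hi
          · rw [(hpos i hi).le (pr_mem 𝒜 i r), zero_smul]
          · rw [hlow _ x.2 _ (by omega), smul_zero]
        · intro h0
          rw [show pr 𝒜 0 r = 0 from (show ((DirectSum.decompose 𝒜 r 0 : 𝒜 0) : R) = 0 by
            rw [DFinsupp.notMem_support_iff.1 h0]; rfl), zero_smul, map_zero]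
      show ψ (l (pr 𝒞 j (r • (x : C)))) = r • ψ (l (pr 𝒞 j (x : C)))
      rw [h1, show l (pr 𝒜 0 r • pr 𝒞 j (x : C)) = (⟨pr 𝒜 0 r, pr_mem 𝒜 0 r⟩ : R₀) • l (pr 𝒞 j (x : C)) from
        map_smul l (⟨pr 𝒜 0 r, pr_mem 𝒜 0 r⟩ : R₀) _, map_smul]
      show pr 𝒜 0 r • e _ = r • e _
      refine (e.map_smul (pr 𝒜 0 r) _).symm.trans ((congrArg e ?_).trans (e.map_smul r _))
      refine Ideal.Quotient.eq.2 ?_
      simp only [smul_eq_mul]
      rw [← sub_mul]
      exact m.toIdeal.mul_mem_right _ (neg_mem_iff.1 (by rw [neg_sub]; exact sub_pr_zero_mem hpos hm r))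
    let u : ↥K →ₗ[R] E' := { toFun := u₀, map_add' := hu₀add, map_smul' := hu₀smul }
    let X₀ := GrLC.GMod.of 𝒜 E' 𝓔
    let B := shiftObj 𝒜 𝒞 j
    let A := shiftObj 𝒜 (subObj 𝒜 𝒞 K hK).gr j
    have hu : GrLC.IsGrHom A.gr X₀.gr (u : A.carrier →ₗ[R] X₀.carrier) := fun g x hx => by
      show u₀ x ∈ 𝓔 g
      have hx' : ((show ↥K from x) : C) ∈ 𝒞 (g + j) := hx
      by_cases hg : g = 0
      · subst hg
        exact he.grHom 0 _ ⟨_, (l (pr 𝒞 j ((show ↥K from x) : C))).2, rfl⟩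
      · show ψ (l (pr 𝒞 j ((show ↥K from x) : C))) ∈ 𝓔 g
        rw [pr_of_mem_ne 𝒞 hx' (by omega), map_zero, map_zero]
        exact zero_mem _
    obtain ⟨f, hf, hfu⟩ := exists_extend (A := A) (B := B) (X := X₀) he.starInj
      (f := (K.subtype : A.carrier →ₗ[R] B.carrier)) (fun g x hx => hx) hu
      (fun x hx => by
        have : x = 0 := K.injective_subtype (hx.trans (map_zero _).symm)
        rw [this]; exact Submodule.zero_mem _)
    let f' : C →ₗ[R] E' := f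
    have hf' : f' ∈ GrLC.homDeg 𝒜 𝒞 𝓔 (-j) := fun g x hx => by
      show f' x ∈ 𝓔 (g + -j)
      refine hf (g + -j) x ?_
      show x ∈ 𝒞 (g + -j + j)
      rwa [neg_add_cancel_right]
    refine ⟨φ f', hφ (-j) f' hf', fun x hx => ?_⟩
    show χ (φ.symm (φ f') x) = l x
    rw [φ.symm_apply_apply]
    have h1 : f' x = ψ (l (pr 𝒞 j x)) := LinearMap.congr_fun hfu ⟨x, Submodule.subset_span hx⟩
    rw [h1, pr_of_mem 𝒞 hx]
    exact LinearMap.congr_fun hχ (l x)
  refine ⟨fun j x hx hx0 => ?_, fun j L => ?_⟩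
  · by_contra hne
    obtain ⟨l, hl, -⟩ := Submodule.exists_dual_map_eq_bot_of_notMem (p := (⊥ : Submodule R₀ C))
      (show x ∉ (⊥ : Submodule R₀ C) by rwa [Submodule.mem_bot]) inferInstance
    obtain ⟨h, hh, hhl⟩ := hext j l
    exact hl ((hhl x hx).symm.trans (hx0 h hh))
  -- representability
  haveI : IsNoetherian R₀ ↥(GrLC.comp 𝒜 𝒞 j) := by
    haveI : IsNoetherian R C := isNoetherian_of_isNoetherianRing_of_finite R C
    have key : ∀ (V : Submodule R₀ ↥(GrLC.comp 𝒜 𝒞 j)) (x : C),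
        x ∈ Submodule.span R ((V.map (GrLC.comp 𝒜 𝒞 j).subtype : Submodule R₀ C) : Set C) →
          pr 𝒞 j x ∈ V.map (GrLC.comp 𝒜 𝒞 j).subtype := fun V x hx => by
      suffices h : ∀ c : R, pr 𝒞 j (c • x) ∈ V.map (GrLC.comp 𝒜 𝒞 j).subtype by simpa only [one_smul] using h 1
      induction hx using Submodule.span_induction with
      | mem b hb =>
        intro c
        obtain ⟨v, hv, rfl⟩ := hb
        rw [pr_smul_left 𝒜 𝒞 (show ((GrLC.comp 𝒜 𝒞 j).subtype v) ∈ 𝒞 j from v.2), sub_self]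
        exact Submodule.smul_mem _ (⟨pr 𝒜 0 c, pr_mem 𝒜 0 c⟩ : R₀) ⟨v, hv, rfl⟩
      | zero => exact fun c => by rw [smul_zero, map_zero]; exact zero_mem _
      | add a b _ _ ha hb => exact fun c => by rw [smul_add, map_add]; exact add_mem (ha c) (hb c)
      | smul d a _ ha => exact fun c => by rw [smul_smul]; exact ha _
    refine isNoetherian_iff'.2 (StrictMono.wellFoundedGT (β := Submodule R C)
      (f := fun V => Submodule.span R ((V.map (GrLC.comp 𝒜 𝒞 j).subtype : Submodule R₀ C) : Set C))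
      (Monotone.strictMono_of_injective (fun V W h => Submodule.span_mono (Submodule.map_mono h)) fun V W hVW => ?_))
    have h2 : ∀ V W : Submodule R₀ ↥(GrLC.comp 𝒜 𝒞 j),
        Submodule.span R ((V.map (GrLC.comp 𝒜 𝒞 j).subtype : Submodule R₀ C) : Set C) ≤
          Submodule.span R ((W.map (GrLC.comp 𝒜 𝒞 j).subtype : Submodule R₀ C) : Set C) → V ≤ W := fun V W h v hv => by
      obtain ⟨w, hw, hwv⟩ := key W (v : C) (h (Submodule.subset_span ⟨v, hv, rfl⟩))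
      rw [pr_of_mem 𝒞 (show (v : C) ∈ 𝒞 j from v.2)] at hwv
      rwa [← Subtype.ext hwv]
    exact le_antisymm (h2 V W hVW.le) (h2 W V hVW.ge)
  let P := GrLC.comp 𝒜 𝒞 j
  let U : ↥(I.Hcomp m n (-j)) →ₗ[R₀] Module.Dual R₀ P :=
    ((β.flip).comp (I.Hcomp m n (-j)).subtype).compr₂ LinearMap.id |>.compl₂ P.subtype
  have hU : ∀ (h : ↥(I.Hcomp m n (-j))) (x : P), U h x = β (x : C) (h : I.H m n) := fun h x => rfl
  have hUb : Function.Bijective U := by
    refine ⟨(injective_iff_map_eq_zero U).2 fun h hh => Subtype.ext ?_, fun l => ?_⟩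
    · have h1 : φ.symm (h : I.H m n) = 0 := hdet (-j) _ (hsurj (-j) _ h.2) fun x hx => by
        rw [neg_neg] at hx
        rw [← hβψ j x hx _ h.2, show β x (h : I.H m n) = 0 from LinearMap.congr_fun hh ⟨x, hx⟩, map_zero]
      exact φ.symm.injective (h1.trans (map_zero _).symm)
    · obtain ⟨l', hl'⟩ := LinearMap.exists_extend l
      obtain ⟨h, hh, hhl⟩ := hext j l'
      exact ⟨⟨h, hh⟩, LinearMap.ext fun x => (hhl x x.2).trans (LinearMap.congr_fun hl' x)⟩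
  let UU := LinearEquiv.ofBijective U hUb
  obtain ⟨x, hx⟩ := (Module.evalEquiv R₀ P).surjective
    ((L.comp (I.Hcomp m n (-j)).subtype).comp UU.symm.toLinearMap)
  refine ⟨(x : C), x.2, fun h hh => ?_⟩
  have h1 := LinearMap.congr_fun hx (UU ⟨h, hh⟩)
  rw [LinearMap.comp_apply, LinearEquiv.coe_coe, UU.symm_apply_apply] at h1
  exact h1

variable {R' : Type u} [CommRing R'] {𝒜' : ℤ → AddSubgroup R'} [GradedRing 𝒜'] {m' : HomogeneousIdeal 𝒜'}
  {E'' : Type u} [AddCommGroup E''] [Module R' E''] {𝓔'' : ℤ → AddSubgroup E''} [DirectSum.Decomposition 𝓔'']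
  [SetLike.GradedSMul 𝒜' 𝓔''] {e' : (R' ⧸ m'.toIdeal) →ₗ[R'] E''}
  {C' : Type u} [AddCommGroup C'] [Module R' C'] {𝒞' : ℤ → AddSubgroup C'} [DirectSum.Decomposition 𝒞']
  [SetLike.GradedSMul 𝒜' 𝒞'] {I' : GrLC.StarInjRes 𝒜' 𝒜'}

theorem exists_semilinear (D : Datum 𝒜 𝒜') (hpos : ∀ k : ℤ, k < 0 → 𝒜 k = ⊥) (h0 : IsField R₀)
    (hm : GrLC.IsStarLocal 𝒜 m) (hmsp : m.toIdeal = Ideal.span (⋃ j ∈ Set.Ioi (0 : ℤ), (𝒜 j : Set R)))
    (he : GrLC.IsStarInjHull 𝒜 (GrLC.quotGr 𝒜 m) 𝓔 e) (hC : GrLC.IsStarCanonical 𝒜 𝒞 𝓔 m n I)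
    (hm' : GrLC.IsStarLocal 𝒜' m') (hm'sp : m'.toIdeal = Ideal.span (⋃ j ∈ Set.Ioi (0 : ℤ), (𝒜' j : Set R')))
    (he' : GrLC.IsStarInjHull 𝒜' (GrLC.quotGr 𝒜' m') 𝓔'' e') (hC' : GrLC.IsStarCanonical 𝒜' 𝒞' 𝓔'' m' n I') :
    ∃ g : C' →ₛₗ[D.φ] C, Function.Injective g ∧ ∀ j : ℤ, (𝒞' j).map (g : C' →+ C) = 𝒞 (j * D.q) := by
  haveI := isNoetherianRing D
  letI : Field R₀ := h0.toField
  have hpos' : ∀ k : ℤ, k < 0 → 𝒜' k = ⊥ := fun k hk => (AddSubgroup.eq_bot_iff_forall _).2 fun a ha => by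
    have h1 := D.map_mem ha
    rw [hpos _ (mul_neg_of_neg_of_pos hk (Int.natCast_pos.2 D.hq)), AddSubgroup.mem_bot] at h1
    exact D.hφ (h1.trans (map_zero _).symm)
  let φ₀ : GrLC.deg0 𝒜' →+* R₀ := (D.φ.comp (GrLC.deg0 𝒜').subtype).codRestrict _ fun a => by
    have h := D.map_mem (show (a : R') ∈ 𝒜' 0 from a.2)
    rw [zero_mul] at h
    exact h
  have hφ₀s : Function.Surjective φ₀ := fun c => by
    obtain ⟨a, ha, hac⟩ := D.exists_preimage (j := 0) (r := (c : R)) (by rw [zero_mul]; exact c.2)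
    exact ⟨⟨a, ha⟩, Subtype.ext hac⟩
  have hφ₀i : Function.Injective φ₀ := fun a b h => Subtype.ext (D.hφ (congrArg Subtype.val h))
  let φe := RingEquiv.ofBijective φ₀ ⟨hφ₀i, hφ₀s⟩
  have h0' : IsField (GrLC.deg0 𝒜') := φe.toMulEquiv.isField h0
  obtain ⟨β, hβsmul, hβsep, hβrep⟩ := exists_pairing hpos h0 hm he hC
  obtain ⟨β', hβ'smul, hβ'sep, hβ'rep⟩ := exists_pairing hpos' h0' hm' he' hC'
  obtain ⟨Ψ, hΨ⟩ := exists_hmap D hmsp hm'sp I I' D.φ.toSemilinearMap D.hφ D.hdeg n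
  have hΨsmul : ∀ (c : GrLC.deg0 𝒜') (h : I'.H m' n), Ψ (c • h) = φ₀ c • Ψ h := fun c h =>
    map_smulₛₗ Ψ (c : R') h
  -- the transported functional
  have hfun : ∀ (j : ℤ) (x : C'), ∃ L : I.H m n →ₗ[R₀] R₀,
      ∀ h ∈ I'.Hgr m' n (-j), L (Ψ h) = φ₀ (β' x h) := by
    intro j x
    have hpre : ∀ y : ↥(I.Hcomp m n (-j * D.q)), ∃ h ∈ I'.Hgr m' n (-j), Ψ h = y := fun y => (hΨ (-j)).2 y y.2
    choose s hs hsΨ using hpre
    have huniq : ∀ h ∈ I'.Hgr m' n (-j), ∀ h' ∈ I'.Hgr m' n (-j), Ψ h = Ψ h' → h = h' := fun h hh h' hh' he =>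
      sub_eq_zero.1 (((hΨ (-j)).1 _ (sub_mem hh hh')).2 (by rw [map_sub, he, sub_self]))
    let L₀ : ↥(I.Hcomp m n (-j * D.q)) →ₗ[R₀] R₀ :=
      { toFun := fun y => φ₀ (β' x (s y))
        map_add' := fun y z => by
          rw [← map_add, ← map_add, huniq _ (hs (y + z)) _ (add_mem (hs y) (hs z))
            (by rw [map_add, hsΨ, hsΨ, hsΨ]; rfl)]
        map_smul' := fun c y => by
          obtain ⟨c', rfl⟩ := hφ₀s c
          rw [huniq _ (hs (φ₀ c' • y)) _ (show c' • s y ∈ I'.Hgr m' n (-j) from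
            (I'.Hcomp m' n (-j)).smul_mem c' (hs y)) (by rw [hΨsmul, hsΨ, hsΨ]; rfl),
            map_smul, smul_eq_mul, map_mul]
          rfl }
    obtain ⟨L, hL⟩ := LinearMap.exists_extend L₀
    refine ⟨L, fun h hh => ?_⟩
    have hmem := ((hΨ (-j)).1 h hh).1
    rw [show L (Ψ h) = L₀ ⟨Ψ h, hmem⟩ from LinearMap.congr_fun hL ⟨Ψ h, hmem⟩]
    show φ₀ (β' x (s ⟨Ψ h, hmem⟩)) = _
    rw [huniq _ (hs _) h hh (hsΨ _)]
  have hsep : ∀ (j : ℤ), ∀ y ∈ 𝒞 (j * D.q), ∀ y' ∈ 𝒞 (j * D.q),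
      (∀ h ∈ I'.Hgr m' n (-j), β y (Ψ h) = β y' (Ψ h)) → y = y' := fun j y hy y' hy' h => by
    refine sub_eq_zero.1 (hβsep (j * D.q) _ (sub_mem hy hy') fun w hw => ?_)
    rw [show -(j * (D.q : ℤ)) = -j * D.q by ring] at hw
    obtain ⟨h', hh', rfl⟩ := (hΨ (-j)).2 w hw
    rw [map_sub, LinearMap.sub_apply, h h' hh', sub_self]
  have hG : ∀ (j : ℤ) (x : 𝒞' j), ∃ y, y ∈ 𝒞 (j * D.q) ∧ ∀ h ∈ I'.Hgr m' n (-j), β y (Ψ h) = φ₀ (β' (x : C') h) := by
    intro j x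
    obtain ⟨L, hL⟩ := hfun j x
    obtain ⟨y, hy, hyL⟩ := hβrep (j * D.q) L
    refine ⟨y, hy, fun h hh => ?_⟩
    rw [hyL _ (by rw [show -(j * (D.q : ℤ)) = -j * D.q by ring]; exact ((hΨ (-j)).1 h hh).1), hL h hh]
  choose G hGmem hGβ using hG
  let Gj : ∀ j, 𝒞' j →+ C := fun j => AddMonoidHom.mk' (G j) fun x x' =>
    hsep j _ (hGmem j _) _ (add_mem (hGmem j x) (hGmem j x')) fun h hh => by
      rw [map_add, LinearMap.add_apply, hGβ j _ h hh, hGβ j _ h hh, hGβ j _ h hh, AddSubgroup.coe_add, map_add,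
        LinearMap.add_apply, map_add]
  let g₀ : C' →+ C := (DirectSum.toAddMonoid Gj).comp (DirectSum.decomposeAddEquiv 𝒞').toAddMonoidHom
  have hg₀ : ∀ (j : ℤ) (x : C') (hx : x ∈ 𝒞' j), g₀ x = G j ⟨x, hx⟩ := fun j x hx => by
    simp only [g₀, AddMonoidHom.comp_apply, AddEquiv.coe_toAddMonoidHom, DirectSum.decomposeAddEquiv_apply,
      DirectSum.decompose_of_mem 𝒞' hx, DirectSum.toAddMonoid_of]
    rfl
  have hsmul : ∀ (a : R') (x : C'), g₀ (a • x) = D.φ a • g₀ x := by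
    intro a x
    induction x using DirectSum.Decomposition.inductionOn 𝒞' with
    | zero => simp
    | add u v hu hv => rw [smul_add, map_add, map_add, smul_add, hu, hv]
    | @homogeneous j x =>
      induction a using DirectSum.Decomposition.inductionOn 𝒜' with
      | zero => simp
      | add u v hu hv => rw [add_smul, map_add, map_add, add_smul, hu, hv]
      | @homogeneous i a =>
        have hax : (a : R') • (x : C') ∈ 𝒞' (i + j) := SetLike.GradedSMul.smul_mem (A := 𝒜') (B := 𝒞') a.2 x.2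
        rw [hg₀ _ _ hax, hg₀ j x x.2]
        refine hsep (i + j) _ (hGmem _ _) _ ?_ fun h hh => ?_
        · rw [add_mul]
          exact SetLike.GradedSMul.smul_mem (A := 𝒜) (B := 𝒞) (D.map_mem a.2) (hGmem j x)
        · rw [hGβ _ _ h hh, hβsmul, show D.φ (a : R') • Ψ h = Ψ ((a : R') • h) from (map_smulₛₗ Ψ _ _).symm,
            hGβ j x _ (by
              have := hgr_smul a.2 hh
              rwa [show i + -(i + j) = -j by ring] at this), hβ'smul]
  refine ⟨{ toFun := g₀, map_add' := map_add g₀, map_smul' := hsmul }, ?_, fun j => ?_⟩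
  · refine (injective_iff_map_eq_zero g₀).2 fun x hx => ?_
    have hpr : ∀ j, pr 𝒞 (j * D.q) (g₀ x) = g₀ (pr 𝒞' j x) := fun j => by
      clear hx
      induction x using DirectSum.Decomposition.inductionOn 𝒞' with
      | zero => simp
      | add u v hu hv => rw [map_add, map_add, map_add, map_add, hu, hv]
      | @homogeneous i x =>
        rw [hg₀ i x x.2]
        rcases eq_or_ne i j with rfl | hne
        · rw [pr_of_mem _ (hGmem i _), pr_of_mem _ x.2, hg₀ i x x.2]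
        · rw [pr_of_mem_ne _ (hGmem i _) (fun h => hne (D.mul_right_inj h)), pr_of_mem_ne _ x.2 hne, map_zero]
    rw [← sum_pr 𝒞' x]
    refine Finset.sum_eq_zero fun j _ => hβ'sep j _ (pr_mem 𝒞' j x) fun h hh => ?_
    refine hφ₀i ?_
    rw [map_zero, ← hGβ j ⟨_, pr_mem 𝒞' j x⟩ h hh, ← hg₀ j _ (pr_mem 𝒞' j x), ← hpr j, hx, map_zero, map_zero,
      LinearMap.zero_apply]
  · refine le_antisymm ?_ fun y hy => ?_
    · rintro _ ⟨x, hx, rfl⟩
      show g₀ x ∈ 𝒞 (j * D.q)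
      rw [hg₀ j x hx]
      exact hGmem j _
    let L' : I'.H m' n →ₗ[GrLC.deg0 𝒜'] GrLC.deg0 𝒜' :=
      { toFun := fun h => φe.symm (β y (Ψ h))
        map_add' := fun a b => by simp only [map_add]
        map_smul' := fun c h => by
          rw [hΨsmul, map_smul, smul_eq_mul, map_mul, show φe.symm (φ₀ c) = c from φe.symm_apply_apply c]
          rfl }
    obtain ⟨x, hx, hxL⟩ := hβ'rep j L'
    refine ⟨x, hx, ?_⟩
    show g₀ x = y
    rw [hg₀ j x hx]
    refine hsep j _ (hGmem j _) _ hy fun h hh => ?_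
    rw [hGβ j _ h hh, hxL h hh]
    exact φe.apply_symm_apply _

end Groth.Agent.GrLCVeronese.Canon
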