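import Groth.Agent.GrLCVeronese.Acyclic
import Groth.Agent.GrLCVeronese.Compare

/-!
Graded local cohomology commutes with the Veronese functor.
-/

set_option autoImplicit false
set_option linter.unusedSectionVars false
set_option linter.style.haveILetI false
set_option backward.isDefEq.respectTransparency false
set_option backward.isDefEq.respectTransparency.types false
universe u

open scoped Classical
open DirectSum Groth.Agent.GrLCLib

noncomputable section

namespace Groth.Agent.GrLCVeronese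

variable {R : Type u} [CommRing R] [IsNoetherianRing R] {𝒜 : ℤ → AddSubgroup R} [GradedRing 𝒜]
  {R' : Type u} [CommRing R'] {𝒜' : ℤ → AddSubgroup R'} [GradedRing 𝒜']
  (D : Datum 𝒜 𝒜') {m : HomogeneousIdeal 𝒜} {m' : HomogeneousIdeal 𝒜'}
  (hm : m.toIdeal = Ideal.span (⋃ n ∈ Set.Ioi (0 : ℤ), (𝒜 n : Set R)))
  (hm' : m'.toIdeal = Ideal.span (⋃ n ∈ Set.Ioi (0 : ℤ), (𝒜' n : Set R')))
variable {M : Type u} [AddCommGroup M] [Module R M] {ℳ : ℤ → AddSubgroup M} [DirectSum.Decomposition ℳ]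
  [SetLike.GradedSMul 𝒜 ℳ]
variable {M' : Type u} [AddCommGroup M'] [Module R' M'] {ℳ' : ℤ → AddSubgroup M'} [DirectSum.Decomposition ℳ']
  [SetLike.GradedSMul 𝒜' ℳ']
variable (E : GrLC.StarInjRes 𝒜 ℳ) (g : M' →ₛₗ[D.φ] M) (hg : Function.Injective g)
  (hgdeg : ∀ j : ℤ, (ℳ' j).map (g : M' →+ M) = ℳ (j * D.q))

include hgdeg in
lemma map_piece {j : ℤ} {x : M'} (hx : x ∈ ℳ' j) : g x ∈ ℳ (j * D.q) :=
  hgdeg j ▸ AddSubgroup.mem_map_of_mem _ hx

include hgdeg in
lemma eps_mem_vset (x : M') : E.ε (g x) ∈ vset D (E.X 0).gr := by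
  induction x using DirectSum.Decomposition.inductionOn ℳ' with
  | zero => rw [map_zero, map_zero]; exact zero_mem _
  | @homogeneous j y => exact mem_vset_of_mem D _ (E.ε_grHom _ _ (map_piece D g hgdeg y.2))
  | add a b ha hb => rw [map_add, map_add]; exact add_mem ha hb

/-- The Veronese of a *injective resolution, resolving the Veronese submodule. -/
def veroRes : AcyRes ℳ' m' where
  X n := veroObj D (E.X n)
  d n := veroMap D (E.d n) (E.d_grHom n)
  ε :=
    { toFun := fun x => ⟨E.ε (g x), eps_mem_vset D E g hgdeg x⟩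
      map_add' := fun x y => vval_injective D (E.X 0) (by
        show E.ε (g (x + y)) = E.ε (g x) + E.ε (g y)
        rw [map_add, map_add])
      map_smul' := fun a x => vval_injective D (E.X 0) (by
        show E.ε (g (a • x)) = D.φ a • E.ε (g x)
        rw [map_smulₛₗ, map_smul]) }
  d_grHom n := veroMap_grHom D (E.d n) (E.d_grHom n)
  ε_grHom j x hx := E.ε_grHom _ _ (map_piece D g hgdeg hx)
  ε_injective x y h := hg (E.ε_injective (congrArg (vval D (E.X 0)) h))
  exact_zero := by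
    refine le_antisymm (fun z hz => ?_) ?_
    · obtain ⟨m₀, hm₀⟩ : vval D (E.X 0) z ∈ LinearMap.range E.ε := by
        rw [← E.exact_zero]; exact congrArg (vval D (E.X 1)) hz
      have key : ∀ y : M, ∃ x : M', g x = vproj D ℳ y := fun y => by
        induction y using DirectSum.Decomposition.inductionOn ℳ with
        | zero => exact ⟨0, by rw [map_zero, map_zero]⟩
        | @homogeneous h w =>
          rw [vproj_of_mem D ℳ w.2]
          split
          · rename_i hdvd
            have : (w : M) ∈ (ℳ' (h / D.q)).map (g : M' →+ M) := by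
              rw [hgdeg, Int.ediv_mul_cancel hdvd]; exact w.2
            obtain ⟨x, -, hx⟩ := this
            exact ⟨x, hx⟩
          · exact ⟨0, map_zero g⟩
        | add a b ha hb =>
          obtain ⟨x, hx⟩ := ha; obtain ⟨y, hy⟩ := hb
          exact ⟨x + y, by rw [map_add, map_add, hx, hy]⟩
      obtain ⟨x, hx⟩ := key m₀
      refine ⟨x, vval_injective D (E.X 0) ?_⟩
      show E.ε (g x) = vval D (E.X 0) z
      rw [hx, vproj_map D ℳ (E.X 0).gr E.ε_grHom, hm₀]
      exact Subtype.prop (p := fun y => y ∈ vset D (E.X 0).gr) z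
    · rintro _ ⟨x, rfl⟩
      exact vval_injective D (E.X 1) ((GrLCLib.d_ε E (g x)).trans (map_zero (vval D (E.X 1))).symm)
  exact_succ n := by
    refine le_antisymm (fun z hz => ?_) ?_
    · refine exists_vero_preimage D (E.d_grHom n) ?_
      rw [← E.exact_succ]
      exact congrArg (vval D (E.X (n + 1 + 1))) hz
    · rintro _ ⟨x, rfl⟩
      exact vval_injective D (E.X (n + 1 + 1))
        ((GrLCLib.d_d E n (vval D (E.X n) x)).trans (map_zero (vval D (E.X (n + 1 + 1)))).symm)
  acyclic n i := subsingleton_localCohomology_vero D m m' hm hm' (E.starInj n) i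

variable {hg hgdeg hm hm'}

lemma veroRes_cocyc_iff {p : ℕ} (z : (veroObj D (E.X p)).carrier) :
    z ∈ (veroRes D hm hm' E g hg hgdeg).cocyc p ↔ vval D (E.X p) z ∈ E.cocyc m p := by
  refine and_congr (mem_gam_vero_iff D m m' hm hm' (E.X p) z) ⟨fun h => ?_, fun h => ?_⟩
  · exact congrArg (vval D (E.X (p + 1))) h
  · exact vval_injective D (E.X (p + 1)) h

lemma veroRes_cobdy_iff : ∀ {p : ℕ} {j : ℤ} (z : (veroObj D (E.X p)).carrier), z ∈ (veroObj D (E.X p)).gr j →
    (z ∈ (veroRes D hm hm' E g hg hgdeg).cobdy p ↔ vval D (E.X p) z ∈ E.cobdy m p)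
  | 0, _, z, _ => by
    constructor
    · intro h
      rw [(Submodule.mem_bot R').1 h]
      exact (Submodule.mem_bot R).2 (map_zero _)
    · intro h
      exact (Submodule.mem_bot R').2 (vval_injective D (E.X 0) ((Submodule.mem_bot R).1 h))
  | p + 1, j, z, hz => by
    constructor
    · rintro ⟨y, hy, rfl⟩
      exact ⟨vval D (E.X p) y, (mem_gam_vero_iff D m m' hm hm' (E.X p) y).1 hy, rfl⟩
    · rintro ⟨y, hy, hyz⟩
      have hmem : pr (E.X p).gr (j * D.q) y ∈ (E.X p).gr (j * D.q) := pr_mem _ _ _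
      let y' : (veroObj D (E.X p)).carrier := ⟨_, mem_vset_of_mem D _ hmem⟩
      refine ⟨y', (mem_gam_vero_iff D m m' hm hm' (E.X p) y').2 (homog_gam 𝒜 m y hy _), vval_injective D (E.X (p + 1)) ?_⟩
      show E.d p (pr (E.X p).gr (j * D.q) y) = vval D (E.X (p + 1)) z
      rw [← pr_map _ _ (E.d_grHom p), hyz]
      exact pr_of_mem _ hz

variable (F : GrLC.StarInjRes 𝒜' ℳ')

include hm hm' hg hgdeg E in
theorem finrank_hcomp_eq (p : ℕ) (j : ℤ) :
    Module.finrank (GrLC.deg0 𝒜') (F.Hcomp m' p j) = Module.finrank (GrLC.deg0 𝒜) (E.Hcomp m p (j * D.q)) := by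
  haveI := isNoetherianRing D
  let K := veroRes D hm hm' E g hg hgdeg
  obtain ⟨c⟩ := exists_cmap K F
  let Z : AddSubgroup (K.X p).carrier := (K.cocyc p).toAddSubgroup ⊓ (K.X p).gr j
  let fF : Z →+ F.Hcomp m' p j :=
    { toFun := fun z => ⟨F.toH m' p ⟨c.ψ p z.1, c.map_cocyc z.2.1⟩, ⟨_, c.gr p j z.1 z.2.2, rfl⟩⟩
      map_zero' := Subtype.ext (by
        refine Eq.trans (congrArg (F.toH m' p) (Subtype.ext ?_)) (map_zero _)
        exact map_zero (c.ψ p))
      map_add' := fun z w => Subtype.ext (by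
        refine Eq.trans (congrArg (F.toH m' p) (Subtype.ext ?_)) (map_add _ _ _)
        exact map_add (c.ψ p) z.1 w.1) }
  let fE : Z →+ E.Hcomp m p (j * D.q) :=
    { toFun := fun z => ⟨E.toH m p ⟨vval D (E.X p) z.1, (veroRes_cocyc_iff D E g z.1).1 z.2.1⟩,
        ⟨⟨vval D (E.X p) z.1, (veroRes_cocyc_iff D E g z.1).1 z.2.1⟩, z.2.2, rfl⟩⟩
      map_zero' := Subtype.ext (by
        refine Eq.trans (congrArg (E.toH m p) (Subtype.ext ?_)) (map_zero _)
        exact map_zero (vval D (E.X p)))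
      map_add' := fun z w => Subtype.ext (by
        refine Eq.trans (congrArg (E.toH m p) (Subtype.ext ?_)) (map_add _ _ _)
        exact map_add (vval D (E.X p)) z.1 w.1) }
  have hFs : Function.Surjective fF := by
    rintro ⟨_, u, hu, rfl⟩
    obtain ⟨z, hz, hzc, hd⟩ := c.exists_homog_cocyc_sub hu u.2
    refine ⟨⟨z, hzc, hz⟩, Subtype.ext ((Submodule.Quotient.eq _).2 ?_)⟩
    show c.ψ p z - u.1 ∈ F.cobdy m' p
    rw [← neg_sub]
    exact Submodule.neg_mem _ hd
  have hEs : Function.Surjective fE := by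
    rintro ⟨_, z, hz, rfl⟩
    exact ⟨⟨⟨z.1, mem_vset_of_mem D _ hz⟩, (veroRes_cocyc_iff D E g _).2 z.2, hz⟩, Subtype.ext rfl⟩
  have hker : ∀ z : Z, fF z = 0 ↔ fE z = 0 := by
    intro z
    refine Subtype.ext_iff.trans (Iff.trans ?_ Subtype.ext_iff.symm)
    refine (Submodule.Quotient.mk_eq_zero _).trans (Iff.trans ?_ (Submodule.Quotient.mk_eq_zero _).symm)
    exact (c.map_cobdy_iff z.2.1).trans (veroRes_cobdy_iff D E g z.1 z.2.2)
  choose s hs using hFs
  have hwd : ∀ z w, fF z = fF w → fE z = fE w := fun z w h => sub_eq_zero.1 (by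
    rw [← map_sub, ← hker, map_sub, h, sub_self])
  have hbij : Function.Bijective (fun x => fE (s x)) := by
    refine ⟨fun x y h => ?_, fun y => ?_⟩
    · rw [← hs x, ← hs y]
      refine sub_eq_zero.1 ?_
      rw [← map_sub, hker, map_sub]
      exact sub_eq_zero.2 h
    · obtain ⟨z, rfl⟩ := hEs y
      exact ⟨fF z, hwd _ _ (hs _)⟩
  let e : F.Hcomp m' p j →+ E.Hcomp m p (j * D.q) :=
    AddMonoidHom.mk' (fun x => fE (s x)) fun x y => by
      rw [← map_add]; exact hwd _ _ (by rw [map_add, hs, hs, hs])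
  have hσ : ∀ r : GrLC.deg0 𝒜', D.φ r.1 ∈ 𝒜 0 := fun r => by
    have := D.map_mem (j := 0) r.2
    rwa [zero_mul] at this
  let σ : GrLC.deg0 𝒜' →+* GrLC.deg0 𝒜 := (D.φ.comp (GrLC.deg0 𝒜').subtype).codRestrict _ hσ
  have hσb : Function.Bijective σ := by
    refine ⟨fun r s h => Subtype.ext (D.hφ (congrArg Subtype.val h)), fun r => ?_⟩
    obtain ⟨a, ha, hae⟩ := D.exists_preimage (j := 0) (r := r.1) (by rw [zero_mul]; exact r.2)
    exact ⟨⟨a, ha⟩, Subtype.ext hae⟩
  refine congrArg Cardinal.toNat (rank_eq_of_equiv_equiv σ (AddEquiv.ofBijective e hbij) hσb fun r x => ?_)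
  show fE (s (r • x)) = σ r • fE (s x)
  have hz : r.1 • (s x).1 ∈ Z := ⟨Submodule.smul_mem _ r.1 (s x).2.1, by
    have := smul_mem 𝒜' (K.X p).gr r.2 (s x).2.2
    rwa [zero_add] at this⟩
  rw [hwd (s (r • x)) ⟨_, hz⟩ ?_]
  · refine Subtype.ext ((congrArg (E.toH m p) (Subtype.ext ?_)).trans (map_smul (E.toH m p) (D.φ r.1) _))
    rfl
  · refine (hs _).trans ?_
    conv_lhs => rw [← hs x]
    refine Subtype.ext ?_
    refine (map_smul (F.toH m' p) r.1 _).symm.trans (congrArg (F.toH m' p) (Subtype.ext ?_))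
    exact (map_smul (c.ψ p) r.1 _).symm

end Groth.Agent.GrLCVeronese
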