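import Groth.Prelude.Def_GrLC2
import Groth.Agent.GrGor.ExtReg
import Mathlib.RingTheory.MvPolynomial.Ideal
import Mathlib.RingTheory.MvPolynomial.Homogeneous
import Mathlib.RingTheory.Regular.Flat
import Mathlib.RingTheory.Length
import Mathlib.RingTheory.Nilpotent.Basic
import Mathlib.Data.Sym.Card

/-!
The Cohen-Macaulay type of a Veronese subring of a polynomial ring.
-/

set_option autoImplicit false
set_option linter.unusedSectionVars false
set_option linter.style.haveILetI false
set_option backward.isDefEq.respectTransparency false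
set_option backward.isDefEq.respectTransparency.types false
universe u

open CategoryTheory Abelian IsLocalRing RingTheory.Sequence MvPolynomial

noncomputable section

namespace Groth.Agent.GrLCVeronese.PolyType

/-- The length of the homomorphisms from the residue field when the killed elements are spanned by a family
independent modulo the maximal ideal. -/
theorem length_hom_residue {A : Type u} [CommRing A] [IsLocalRing A] {Q : Type u} [AddCommGroup Q] [Module A Q]
    {T : Type} [Fintype T] (v : T → Q) (hk : ∀ t, ∀ a ∈ maximalIdeal A, a • v t = 0)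
    (hgen : ∀ q : Q, (∀ a ∈ maximalIdeal A, a • q = 0) → q ∈ Submodule.span A (Set.range v))
    (hind : ∀ a : T → A, ∑ t, a t • v t = 0 → ∀ t, a t ∈ maximalIdeal A) :
    Module.length A (ResidueField A →ₗ[A] Q) = Fintype.card T := by
  classical
  let w : (T → A) →ₗ[A] Q :=
    { toFun := fun a => ∑ t, a t • v t
      map_add' := fun a b => by simp only [Pi.add_apply, add_smul, Finset.sum_add_distrib]
      map_smul' := fun c a => by simp only [Pi.smul_apply, smul_eq_mul, mul_smul, Finset.smul_sum, RingHom.id_apply] }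
  let Φ : T → (ResidueField A →ₗ[A] Q) := fun t =>
    Submodule.liftQ (maximalIdeal A) (LinearMap.toSpanSingleton A Q (v t)) fun a ha => hk t a ha
  let L : (T → A) →ₗ[A] (ResidueField A →ₗ[A] Q) :=
    { toFun := fun a => ∑ t, a t • Φ t
      map_add' := fun a b => by simp only [Pi.add_apply, add_smul, Finset.sum_add_distrib]
      map_smul' := fun c a => by simp only [Pi.smul_apply, smul_eq_mul, mul_smul, Finset.smul_sum, RingHom.id_apply] }
  have hΦ : ∀ t (x : A), Φ t (residue A x) = x • v t := fun t x => rfl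
  have hL : ∀ (a : T → A) (x : A), L a (residue A x) = x • ∑ t, a t • v t := fun a x => by
    show (∑ t, a t • Φ t) (residue A x) = _
    rw [LinearMap.coe_sum, Finset.sum_apply, Finset.smul_sum]
    exact Finset.sum_congr rfl fun t _ => (congrArg (a t • ·) (hΦ t x)).trans (smul_comm _ _ _)
  have hsurj : Function.Surjective L := fun ψ => by
    obtain ⟨a, ha⟩ := (Submodule.mem_span_range_iff_exists_fun A).1 (hgen (ψ (residue A 1)) fun r hr => by
      rw [← map_smul, show r • residue A 1 = residue A (r * 1) from rfl, mul_one, (residue_eq_zero_iff r).2 hr,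
        map_zero])
    refine ⟨a, LinearMap.ext fun x => ?_⟩
    obtain ⟨x, rfl⟩ := residue_surjective x
    rw [hL, ha, ← map_smul, show x • residue A 1 = residue A (x * 1) from rfl, mul_one]
  have hker : LinearMap.ker L = Submodule.pi Set.univ fun _ => (maximalIdeal A : Submodule A A) := by
    ext a
    rw [LinearMap.mem_ker, Submodule.mem_pi]
    refine ⟨fun h t _ => hind a ?_ t, fun h => LinearMap.ext fun x => ?_⟩
    · have h1 := hL a 1
      rw [h, LinearMap.zero_apply, one_smul] at h1
      exact h1.symm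
    · obtain ⟨x, rfl⟩ := residue_surjective x
      rw [hL, Finset.sum_eq_zero fun t _ => hk t _ (h t trivial), smul_zero, LinearMap.zero_apply]
  haveI : IsSimpleModule A (A ⧸ maximalIdeal A) :=
    isSimpleModule_iff_quot_maximal.2 ⟨maximalIdeal A, inferInstance, ⟨LinearEquiv.refl A _⟩⟩
  let f : (T → A) →ₗ[A] (T → A ⧸ maximalIdeal A) :=
    LinearMap.pi fun t => (Submodule.mkQ (maximalIdeal A : Submodule A A)).comp (LinearMap.proj t)
  have hf : Function.Surjective f := fun b =>
    ⟨fun t => Function.surjInv (Submodule.mkQ_surjective _) (b t), funext fun t =>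
      Function.surjInv_eq (Submodule.mkQ_surjective _) (b t)⟩
  have hfk : LinearMap.ker L = LinearMap.ker f := by
    rw [hker]
    ext a
    rw [Submodule.mem_pi, LinearMap.mem_ker, funext_iff]
    exact forall_congr' fun t => ⟨fun h => (Submodule.Quotient.mk_eq_zero _).2 (h trivial),
      fun h _ => (Submodule.Quotient.mk_eq_zero _).1 h⟩
  rw [← (LinearMap.quotKerEquivOfSurjective L hsurj).length_eq, (Submodule.quotEquivOfEq _ _ hfk).length_eq,
    (LinearMap.quotKerEquivOfSurjective f hf).length_eq, Module.length_pi_of_fintype]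
  simp [Module.length_eq_one A (A ⧸ maximalIdeal A)]

variable {k : Type u} [Field k] {s : ℕ}

lemma exists_le_degree {m : ℕ} {b : Fin s →₀ ℕ} (h : m ≤ b.degree) : ∃ f : Fin s →₀ ℕ, f ≤ b ∧ f.degree = m := by
  induction m with
  | zero => exact ⟨0, fun i => Nat.zero_le _, map_zero _⟩
  | succ m ih =>
    obtain ⟨f, hf, hfm⟩ := ih (Nat.le_of_succ_le h)
    obtain ⟨i, hi⟩ : ∃ i, f i < b i := by
      by_contra! hcon
      rw [le_antisymm hf fun i => hcon i] at hfm
      omega
    refine ⟨f + Finsupp.single i 1, fun j => ?_, by rw [map_add, Finsupp.degree_single, hfm]⟩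
    rw [Finsupp.add_apply, Finsupp.single_apply]
    split_ifs with hij
    · subst hij
      exact hi
    · exact hf j

variable {d : ℕ} {R' : Type u} [CommRing R'] {φ : R' →+* MvPolynomial (Fin s) k}

lemma range_iff (hrange : ∀ p : MvPolynomial (Fin s) k, p ∈ φ.range ↔
      ∀ j : ℕ, ¬ d ∣ j → MvPolynomial.homogeneousComponent j p = 0) (p : MvPolynomial (Fin s) k) :
    p ∈ φ.range ↔ ∀ e ∈ p.support, d ∣ e.degree := by
  rw [hrange]
  refine ⟨fun h e he => ?_, fun h j hj => MvPolynomial.ext _ _ fun e => ?_⟩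
  · by_contra hd
    have h1 := congrArg (MvPolynomial.coeff e) (h _ hd)
    rw [MvPolynomial.coeff_homogeneousComponent, if_pos rfl, MvPolynomial.coeff_zero] at h1
    exact MvPolynomial.mem_support_iff.1 he h1
  · rw [MvPolynomial.coeff_homogeneousComponent, MvPolynomial.coeff_zero]
    split_ifs with he
    · by_contra hc
      exact hj (he ▸ h e (MvPolynomial.mem_support_iff.2 hc))
    · rfl

variable (hφ : Function.Injective φ) (hr : ∀ p : MvPolynomial (Fin s) k, p ∈ φ.range ↔ ∀ e ∈ p.support, d ∣ e.degree)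

include hr in
lemma monomial_mem {e : Fin s →₀ ℕ} (he : d ∣ e.degree) (c : k) : monomial e c ∈ φ.range :=
  (hr _).2 fun f hf => by
    rw [Finset.mem_singleton.1 (MvPolynomial.support_monomial_subset hf)]
    exact he

include hφ hr in
/-- Membership in ideals generated by `d`-th powers of variables. -/
lemma mem_span_iff (y : Fin s → R') (hy : ∀ j, φ (y j) = monomial (Finsupp.single j d) 1) (D : Set (Fin s)) (x : R') :
    x ∈ Ideal.span (y '' D) ↔ ∀ e ∈ (φ x).support, ∃ j ∈ D, d ≤ e j := by
  have hI : ∀ p : MvPolynomial (Fin s) k,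
      p ∈ Ideal.span ((fun e => monomial e (1 : k)) '' ((fun j => Finsupp.single j d) '' D)) ↔
        ∀ e ∈ p.support, ∃ j ∈ D, d ≤ e j := fun p => by
    rw [MvPolynomial.mem_ideal_span_monomial_image]
    simp only [Set.exists_mem_image, Finsupp.single_le_iff]
  refine ⟨fun hx => (hI _).1 ?_, fun hx => ?_⟩
  · have h : φ x ∈ (Ideal.span (y '' D)).map φ := Ideal.mem_map_of_mem φ hx
    rw [Ideal.map_span, Set.image_image, Set.image_congr fun j _ => hy j] at h
    rwa [Set.image_image]
  · have h : ∀ e ∈ (φ x).support, ∃ z ∈ Ideal.span (y '' D), φ z = monomial e ((φ x).coeff e) := fun e he => by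
      obtain ⟨j, hjD, hj⟩ := hx e he
      have hle : Finsupp.single j d ≤ e := Finsupp.single_le_iff.2 hj
      have hdeg : d ∣ (e - Finsupp.single j d).degree := by
        have h1 : (e - Finsupp.single j d).degree + d = e.degree := by
          conv_rhs => rw [← tsub_add_cancel_of_le hle]
          rw [map_add, Finsupp.degree_single]
        have h2 : d ∣ e.degree := (hr _).1 ⟨x, rfl⟩ e he
        rw [← h1] at h2
        exact (Nat.dvd_add_left dvd_rfl).1 h2
      obtain ⟨z, hz⟩ := monomial_mem hr hdeg ((φ x).coeff e)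
      refine ⟨z * y j, Ideal.mul_mem_left _ _ (Ideal.subset_span ⟨j, hjD, rfl⟩), ?_⟩
      rw [map_mul, hz, hy, MvPolynomial.monomial_mul, mul_one, tsub_add_cancel_of_le hle]
    choose z hz hzφ using h
    have hsum : x = ∑ e ∈ (φ x).support.attach, z e.1 e.2 := hφ (by
      rw [map_sum, Finset.sum_congr rfl fun e _ => hzφ e.1 e.2, Finset.sum_attach _ (fun e => monomial e ((φ x).coeff e))]
      exact (φ x).as_sum)
    rw [hsum]
    exact Ideal.sum_mem _ fun e _ => hz e.1 e.2

theorem bassNum_eq_choose (hs : 1 ≤ s) (hd : 1 ≤ d) (hφ : Function.Injective φ)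
    (hr : ∀ p : MvPolynomial (Fin s) k, p ∈ φ.range ↔ ∀ e ∈ p.support, d ∣ e.degree)
    (m' : Ideal R') [m'.IsMaximal]
    (hm' : m' = Ideal.comap φ (RingHom.ker (MvPolynomial.constantCoeff : MvPolynomial (Fin s) k →+* k)))
    (n : ℕ) (hsn : s ≤ n) (hdn : d ∣ n) (hmin : ∀ n' : ℕ, s ≤ n' → d ∣ n' → n ≤ n') :
    GrLC.bassNum m' R' s = (Nat.choose (n - 1) (s - 1) : ℕ∞) := by
  classical
  obtain ⟨r, rfl⟩ : ∃ r, n = s + r := ⟨n - s, by omega⟩
  have hrd : r < d := by
    by_contra hcon
    have := hmin (s + r - d) (by omega) (Nat.dvd_sub hdn dvd_rfl)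
    omega
  have hyex : ∀ j : Fin s, ∃ y : R', φ y = monomial (Finsupp.single j d) 1 := fun j =>
    monomial_mem hr (by rw [Finsupp.degree_single]) 1
  choose y hy using hyex
  have hJ : ∀ x : R', x ∈ Ideal.span (Set.range y) ↔ ∀ e ∈ (φ x).support, ∃ j, d ≤ e j := fun x => by
    rw [← Set.image_univ, mem_span_iff hφ hr y hy]
    simp
  have hmem : ∀ x : R', x ∈ m' ↔ (φ x).coeff 0 = 0 := fun x => by
    rw [hm', Ideal.mem_comap, RingHom.mem_ker]
    rfl
  have hym : ∀ j, y j ∈ m' := fun j => by
    rw [hmem, hy, MvPolynomial.coeff_monomial, if_neg]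
    exact fun h => by
      have := congrArg (fun f => f j) h
      rw [Finsupp.single_eq_same] at this
      simp at this
      omega
  let J : Ideal R' := Ideal.span (Set.range y)
  -- elements of the maximal ideal are nilpotent modulo the powers
  have hnil : ∀ x ∈ m', ∃ N, x ^ N ∈ J := fun x hx => by
    let I : Ideal (MvPolynomial (Fin s) k) :=
      Ideal.span ((fun e => monomial e (1 : k)) '' Set.range fun j => Finsupp.single j d)
    have hsup : φ x ∈ I.radical := by
      have h1 : φ x ∈ Ideal.span (MvPolynomial.X '' (Set.univ : Set (Fin s))) := by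
        rw [MvPolynomial.mem_ideal_span_X_image]
        intro e he
        by_contra! hcon
        have he0 : e = 0 := Finsupp.ext fun i => hcon i trivial
        exact MvPolynomial.mem_support_iff.1 he (he0 ▸ (hmem x).1 hx)
      refine (Ideal.span_le.2 ?_) h1
      rintro _ ⟨j, -, rfl⟩
      exact ⟨d, Ideal.subset_span ⟨_, ⟨j, rfl⟩, by rw [MvPolynomial.X_pow_eq_monomial]⟩⟩
    obtain ⟨N, hN⟩ := hsup
    refine ⟨N, (hJ _).2 fun e he => ?_⟩
    rw [map_pow] at he
    obtain ⟨_, ⟨j, rfl⟩, hj⟩ := MvPolynomial.mem_ideal_span_monomial_image.1 hN e he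
    exact ⟨j, Finsupp.single_le_iff.1 hj⟩
  let A := Localization.AtPrime m'
  let π := algebraMap R' A
  have hunit : ∀ t : R', t ∉ m' → IsUnit (Ideal.Quotient.mk J t) := fun t ht => by
    obtain ⟨u, hu⟩ := monomial_mem hr (e := 0) (by simp) ((φ t).coeff 0)⁻¹
    have h : t * u - 1 ∈ m' := by
      rw [hmem, map_sub, map_mul, map_one, hu, MvPolynomial.coeff_sub, MvPolynomial.coeff_mul_monomial',
        if_pos le_rfl, tsub_self, mul_inv_cancel₀ fun h => ht ((hmem t).2 h), MvPolynomial.coeff_one, if_pos rfl,
        sub_self]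
    obtain ⟨N, hN⟩ := hnil _ h
    have h2 : IsNilpotent (Ideal.Quotient.mk J (t * u - 1)) :=
      ⟨N, by rw [← map_pow]; exact Ideal.Quotient.eq_zero_iff_mem.2 hN⟩
    have h3 := IsNilpotent.isUnit_one_add h2
    rw [map_sub, map_one, add_sub_cancel, map_mul] at h3
    exact isUnit_of_mul_isUnit_left h3
  let π' : A →+* R' ⧸ J := IsLocalization.lift (M := m'.primeCompl) (g := Ideal.Quotient.mk J) fun t => hunit t t.2
  have hπ' : ∀ x : R', π' (π x) = Ideal.Quotient.mk J x := fun x => IsLocalization.lift_eq _ x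
  -- the regular sequence
  let ys : List R' := List.ofFn y
  have hys : Ideal.ofList ys = J := by
    show Ideal.span _ = Ideal.span _
    congr 1
    ext x
    simp [ys, List.mem_ofFn]
  have hreg : IsWeaklyRegular R' ys := by
    refine ⟨fun i hi => ?_⟩
    have hi' : i < s := by rw [List.length_ofFn] at hi; exact hi
    have htake : Ideal.ofList (ys.take i) = Ideal.span (y '' {j | (j : ℕ) < i}) := by
      show Ideal.span _ = _
      congr 1
      ext x
      simp only [Set.mem_setOf_eq, Set.mem_image, List.mem_take_iff_getElem, ys, List.getElem_ofFn, List.length_ofFn]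
      constructor
      · rintro ⟨j, hj, rfl⟩
        exact ⟨⟨j, by omega⟩, by simp only; omega, rfl⟩
      · rintro ⟨j, hj, rfl⟩
        exact ⟨j, by omega, rfl⟩
    rw [isSMulRegular_iff_right_eq_zero_of_smul]
    intro z hz
    obtain ⟨x, rfl⟩ := Submodule.Quotient.mk_surjective _ z
    rw [← Submodule.Quotient.mk_smul, Submodule.Quotient.mk_eq_zero, smul_eq_mul, Ideal.mul_top, htake,
      mem_span_iff hφ hr y hy] at hz
    rw [Submodule.Quotient.mk_eq_zero, smul_eq_mul, Ideal.mul_top, htake, mem_span_iff hφ hr y hy]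
    intro e he
    have he' : Finsupp.single (⟨i, hi'⟩ : Fin s) d + e ∈ (φ (ys[i] • x)).support := by
      rw [MvPolynomial.mem_support_iff] at he ⊢
      simp only [ys, List.getElem_ofFn, smul_eq_mul, map_mul, hy, MvPolynomial.coeff_monomial_mul, one_mul]
      exact he
    obtain ⟨j, hj, hje⟩ := hz _ he'
    refine ⟨j, hj, ?_⟩
    rw [Finsupp.add_apply, Finsupp.single_apply, if_neg (fun h => by subst h; simp at hj), zero_add] at hje
    exact hje
  have hregA : IsWeaklyRegular A (ys.map π) := by
    haveI : Module.Flat R' A := IsLocalization.flat A m'.primeCompl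
    exact hreg.of_flat
  have hmA : ∀ x : R', π x ∈ maximalIdeal A ↔ x ∈ m' := IsLocalization.AtPrime.to_map_mem_maximal_iff A m'
  obtain ⟨-, ⟨e⟩⟩ := GrGor.ext_of_regular (W := ResidueField A) (ys.map π) A hregA fun a ha w => by
    obtain ⟨x, hx, rfl⟩ := List.mem_map.1 ha
    obtain ⟨j, rfl⟩ := List.mem_ofFn.1 hx
    rw [Algebra.smul_def, IsLocalRing.ResidueField.algebraMap_eq, (residue_eq_zero_iff _).2 ((hmA _).2 (hym j)),
      zero_mul]
  let Q := A ⧸ (Ideal.ofList (ys.map π) • ⊤ : Submodule A A)
  -- socle representatives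
  let top := s * (d - 1) - r
  let T := {e : Fin s →₀ ℕ // e.degree = top ∧ ∀ j, e j < d}
  haveI : Finite T := Finite.of_injective (fun e : T => fun j : Fin s => (⟨e.1 j, e.2.2 j⟩ : Fin d))
    fun a b h => Subtype.ext (Finsupp.ext fun j => congrArg Fin.val (congrFun h j))
  haveI : Fintype T := Fintype.ofFinite T
  have htop : d ∣ top := by
    have h1 : r + top + s = s * d := by
      have : r ≤ s * (d - 1) := le_trans (by omega) (Nat.le_mul_of_pos_left _ hs)
      simp only [top]
      rw [Nat.mul_sub_one] at *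
      have := Nat.le_mul_of_pos_right s hd
      omega
    have h2 : d ∣ (s + r) + top := ⟨s, by rw [Nat.mul_comm d s]; omega⟩
    exact (Nat.dvd_add_right hdn).1 h2
  have hdeg : ∀ e : Fin s →₀ ℕ, (∀ j, e j < d) → e.degree ≤ s * (d - 1) := fun e he => by
    rw [Finsupp.degree_eq_sum]
    exact (Finset.sum_le_card_nsmul _ _ (d - 1) fun j _ => by have := he j; omega).trans (by simp)
  have hmon : ∀ t : T, ∃ x : R', φ x = monomial t.1 1 := fun t => monomial_mem hr (by rw [t.2.1]; exact htop) 1
  choose mon hmon using hmon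
  let v : T → Q := fun t => Submodule.Quotient.mk (π (mon t))
  -- translation between the quotients
  have hQmem : ∀ a : A, (Submodule.Quotient.mk a : Q) = 0 ↔ π' a = 0 := fun a => by
    rw [Submodule.Quotient.mk_eq_zero, smul_eq_mul, Ideal.mul_top, ← Ideal.map_ofList, hys]
    obtain ⟨⟨x, t⟩, rfl⟩ := IsLocalization.mk'_surjective m'.primeCompl a
    rw [IsLocalization.mk'_mem_map_algebraMap_iff, IsLocalization.lift_mk'_spec, mul_zero,
      Ideal.Quotient.eq_zero_iff_mem]
    refine ⟨fun ⟨u, hu, hux⟩ => ?_, fun h => ⟨1, Submonoid.one_mem _, by simpa using h⟩⟩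
    refine Ideal.Quotient.eq_zero_iff_mem.1 ((hunit u hu).mul_right_eq_zero.1 ?_)
    rw [← map_mul]
    exact Ideal.Quotient.eq_zero_iff_mem.2 hux
  have hπ's : ∀ a : A, ∃ x : R', π' a = Ideal.Quotient.mk J x := fun a => (Ideal.Quotient.mk_surjective _).imp fun _ h => h.symm
  have hsoc : ∀ x : R', (∀ z ∈ m', z * x ∈ J) ↔
      ∀ f ∈ (φ x).support, (∀ j, f j < d) → f.degree = top := fun x => by
    refine ⟨fun h f hf hfd => ?_, fun h z hz => (hJ _).2 fun f hf => ?_⟩
    · have hle := hdeg f hfd
      have hdf : d ∣ f.degree := (hr _).1 ⟨x, rfl⟩ f hf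
      by_contra hne
      have hlt : f.degree + d ≤ top := by
        rcases lt_trichotomy f.degree top with h' | h' | h'
        · exact Nat.le_of_lt_add_one (Nat.lt_succ_of_le (by
            obtain ⟨a, ha⟩ := hdf
            obtain ⟨b, hb⟩ := htop
            rw [ha, hb] at h' ⊢
            have := Nat.lt_of_mul_lt_mul_left h'
            nlinarith))
        · exact absurd h' hne
        · exfalso
          obtain ⟨a, ha⟩ := hdf
          obtain ⟨b, hb⟩ := htop
          have hab : b < a := Nat.lt_of_mul_lt_mul_left (a := d) (by rw [← ha, ← hb]; exact h')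
          have : d * (b + 1) ≤ d * a := Nat.mul_le_mul_left d hab
          simp only [top] at hb
          rw [Nat.mul_add, mul_one] at this
          omega
      let b : Fin s →₀ ℕ := Finsupp.equivFunOnFinite.symm fun j => d - 1 - f j
      have hb : b.degree + f.degree = s * (d - 1) := by
        rw [Finsupp.degree_eq_sum, Finsupp.degree_eq_sum, ← Finset.sum_add_distrib]
        simp only [b, Finsupp.equivFunOnFinite_symm_apply_apply]
        rw [Finset.sum_congr rfl fun j _ => Nat.sub_add_cancel (by have := hfd j; omega : f j ≤ d - 1)]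
        simp
      obtain ⟨g, hgb, hgd⟩ := exists_le_degree (m := d) (b := b) (by simp only [top] at hlt; omega)
      obtain ⟨z, hz⟩ := monomial_mem hr (e := g) (by rw [hgd]) 1
      have hzm : z ∈ m' := by
        rw [hmem, hz, MvPolynomial.coeff_monomial, if_neg]
        exact fun h => by rw [h, map_zero] at hgd; omega
      have hgf : g + f ∈ (φ (z * x)).support := by
        rw [MvPolynomial.mem_support_iff] at hf ⊢
        rwa [map_mul, hz, MvPolynomial.coeff_monomial_mul, one_mul]
      obtain ⟨j, hj⟩ := (hJ _).1 (h z hzm) _ hgf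
      have h1 : g j ≤ d - 1 - f j := hgb j
      rw [Finsupp.add_apply] at hj
      have := hfd j
      omega
    · rw [map_mul] at hf
      obtain ⟨f₁, hf₁, f₂, hf₂, rfl⟩ := Finset.mem_add.1 (MvPolynomial.support_mul _ _ hf)
      by_contra! hcon
      have h2 := h f₂ hf₂ fun j => lt_of_le_of_lt (Nat.le_add_left _ _) (hcon j)
      have h1 : f₁ ≠ 0 := fun h => MvPolynomial.mem_support_iff.1 hf₁ (h ▸ (hmem z).1 hz)
      have h1d : d ≤ f₁.degree := Nat.le_of_dvd
        (Nat.pos_of_ne_zero fun h => h1 ((Finsupp.degree_eq_zero_iff _).1 h)) ((hr _).1 ⟨z, rfl⟩ f₁ hf₁)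
      have h3 := hdeg _ hcon
      rw [map_add, h2] at h3
      simp only [top] at h3
      omega
  have hcard : Fintype.card T = Nat.choose (s + r - 1) (s - 1) := by
    let eT : T ≃ {P : Fin s → ℕ // ∑ j, P j = r} :=
      { toFun := fun t => ⟨fun j => d - 1 - t.1 j, by
          have h1 : (∑ j, (d - 1 - t.1 j)) + t.1.degree = s * (d - 1) := by
            rw [Finsupp.degree_eq_sum, ← Finset.sum_add_distrib,
              Finset.sum_congr rfl fun j _ => Nat.sub_add_cancel (by have := t.2.2 j; omega : t.1 j ≤ d - 1)]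
            simp
          rw [t.2.1] at h1
          have : r ≤ s * (d - 1) := le_trans (by omega) (Nat.le_mul_of_pos_left _ hs)
          simp only [top] at h1
          show (∑ j, (d - 1 - t.1 j)) = r
          omega⟩
        invFun := fun P => ⟨Finsupp.equivFunOnFinite.symm fun j => d - 1 - P.1 j, by
          refine ⟨?_, fun j => by rw [Finsupp.equivFunOnFinite_symm_apply_apply]; omega⟩
          have hPle : ∀ j, P.1 j ≤ d - 1 := fun j => by
            have := Finset.single_le_sum (f := P.1) (fun i _ => Nat.zero_le _) (Finset.mem_univ j)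
            have := P.2
            omega
          have h1 : (∑ j, (d - 1 - P.1 j)) + ∑ j, P.1 j = s * (d - 1) := by
            rw [← Finset.sum_add_distrib, Finset.sum_congr rfl fun j _ => Nat.sub_add_cancel (hPle j)]
            simp
          rw [Finsupp.degree_eq_sum]
          simp only [Finsupp.equivFunOnFinite_symm_apply_apply, top]
          have := P.2
          omega⟩
        left_inv := fun t => Subtype.ext (Finsupp.ext fun j => by
          have := t.2.2 j
          simp only [Finsupp.equivFunOnFinite_symm_apply_apply]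
          omega)
        right_inv := fun P => Subtype.ext (funext fun j => by
          have := Finset.single_le_sum (f := P.1) (fun i _ => Nat.zero_le _) (Finset.mem_univ j)
          have := P.2
          simp only [Finsupp.equivFunOnFinite_symm_apply_apply]
          omega) }
    rw [Fintype.card_congr (eT.trans (Sym.equivNatSumOfFintype (Fin s) r).symm), Sym.card_sym_eq_choose,
      Fintype.card_fin, ← Nat.choose_symm (by omega)]
    congr 1
    omega
  have hlen : (ys.map π).length = s := by rw [List.length_map, List.length_ofFn]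
  rw [hlen] at e
  unfold GrLC.bassNum GrLC.bassNumLocal
  let i₀ : LocalizedModule m'.primeCompl R' ≃ₗ[A] A :=
    (((IsLocalizedModule.iso m'.primeCompl (Algebra.linearMap R' A))).extendScalarsOfIsLocalization m'.primeCompl A)
  obtain ⟨c⟩ : Nonempty (Ext.{u} (ModuleCat.of A (ResidueField A))
      (ModuleCat.of A (LocalizedModule m'.primeCompl R')) s ≃ₗ[A]
      Ext.{u} (ModuleCat.of A (ResidueField A)) (ModuleCat.of A A) s) := by
    refine ⟨LinearEquiv.ofLinear ((Ext.mk₀ (ModuleCat.ofHom i₀.toLinearMap)).postcompOfLinear A _ (add_zero s))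
      ((Ext.mk₀ (ModuleCat.ofHom i₀.symm.toLinearMap)).postcompOfLinear A _ (add_zero s)) ?_ ?_⟩
    · refine LinearMap.ext fun a => ?_
      show ((a : Ext _ _ s).comp (Ext.mk₀ (ModuleCat.ofHom i₀.symm.toLinearMap)) (add_zero s)).comp
        (Ext.mk₀ (ModuleCat.ofHom i₀.toLinearMap)) (add_zero s) = a
      rw [Ext.comp_assoc_of_third_deg_zero, Ext.mk₀_comp_mk₀, ← ModuleCat.ofHom_comp, LinearEquiv.comp_coe,
        i₀.symm_trans_self, LinearEquiv.refl_toLinearMap, ModuleCat.ofHom_id, Ext.comp_mk₀_id]
    · refine LinearMap.ext fun a => ?_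
      show ((a : Ext _ _ s).comp (Ext.mk₀ (ModuleCat.ofHom i₀.toLinearMap)) (add_zero s)).comp
        (Ext.mk₀ (ModuleCat.ofHom i₀.symm.toLinearMap)) (add_zero s) = a
      rw [Ext.comp_assoc_of_third_deg_zero, Ext.mk₀_comp_mk₀, ← ModuleCat.ofHom_comp, LinearEquiv.comp_coe,
        i₀.self_trans_symm, LinearEquiv.refl_toLinearMap, ModuleCat.ofHom_id, Ext.comp_mk₀_id]
  rw [(c.trans e).length_eq, ← hcard]
  have hsm : ∀ (a b : A), a • (Submodule.Quotient.mk b : Q) = Submodule.Quotient.mk (a * b) := fun a b => rfl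
  have hzmem : ∀ (a : A) (z : R'), π' a = Ideal.Quotient.mk J z → a ∈ maximalIdeal A → z ∈ m' := fun a z hz ha => by
    have h1 : a - π z ∈ maximalIdeal A := by
      refine (show (Ideal.ofList (ys.map π) • ⊤ : Submodule A A) ≤ maximalIdeal A from ?_)
        ((Submodule.Quotient.mk_eq_zero _).1 ((hQmem _).2 (by rw [map_sub, hπ', hz, sub_self])))
      rw [smul_eq_mul, Ideal.mul_top, ← Ideal.map_ofList, hys]
      exact Ideal.map_le_iff_le_comap.2 (Ideal.span_le.2 (Set.range_subset_iff.2 fun j => (hmA _).2 (hym j)))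
    have h2 := sub_mem ha h1
    rw [sub_sub_cancel] at h2
    exact (hmA z).1 h2
  have hzmem' : ∀ (a : A) (z : R'), π' a = Ideal.Quotient.mk J z → z ∈ m' → a ∈ maximalIdeal A := fun a z hz hzm => by
    have h1 : a - π z ∈ maximalIdeal A := by
      refine (show (Ideal.ofList (ys.map π) • ⊤ : Submodule A A) ≤ maximalIdeal A from ?_)
        ((Submodule.Quotient.mk_eq_zero _).1 ((hQmem _).2 (by rw [map_sub, hπ', hz, sub_self])))
      rw [smul_eq_mul, Ideal.mul_top, ← Ideal.map_ofList, hys]
      exact Ideal.map_le_iff_le_comap.2 (Ideal.span_le.2 (Set.range_subset_iff.2 fun j => (hmA _).2 (hym j)))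
    have h2 := add_mem h1 ((hmA z).2 hzm)
    rwa [sub_add_cancel] at h2
  refine length_hom_residue (Q := Q) v ?_ ?_ ?_
  · intro t a ha
    rw [hsm, hQmem, map_mul, hπ']
    obtain ⟨z, hz⟩ := hπ's a
    rw [hz, ← map_mul, Ideal.Quotient.eq_zero_iff_mem]
    refine (hsoc (mon t)).2 (fun f hf hfd => ?_) z ?_
    · rw [hmon] at hf
      rw [Finset.mem_singleton.1 (MvPolynomial.support_monomial_subset hf)]
      exact t.2.1
    · exact hzmem a z hz ha
  · intro q hq
    obtain ⟨a, rfl⟩ := Submodule.Quotient.mk_surjective _ q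
    obtain ⟨x, hx⟩ := hπ's a
    have hxs : ∀ z ∈ m', z * x ∈ J := fun z hz => by
      have h1 := hq (π z) ((hmA z).2 hz)
      rw [hsm, hQmem, map_mul, hπ', hx, ← map_mul, Ideal.Quotient.eq_zero_iff_mem] at h1
      exact h1
    rw [hsoc] at hxs
    have hc : ∀ t : T, ∃ c : R', φ c = monomial 0 ((φ x).coeff t.1) := fun t => monomial_mem hr (by simp) _
    choose c hc using hc
    have hxJ : x - ∑ t, c t * mon t ∈ J := (hJ _).2 fun f hf => by
      by_contra! hcon
      refine MvPolynomial.mem_support_iff.1 hf ?_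
      rw [map_sub, map_sum, MvPolynomial.coeff_sub, MvPolynomial.coeff_sum]
      simp only [map_mul, hc, hmon, MvPolynomial.monomial_mul, mul_one, zero_add, MvPolynomial.coeff_monomial]
      by_cases hft : f.degree = top
      · rw [Finset.sum_eq_single (⟨f, hft, hcon⟩ : T) (fun t _ ht => if_neg fun h => ht (Subtype.ext h))
          (fun h => absurd (Finset.mem_univ _) h), if_pos rfl, sub_self]
      · rw [Finset.sum_eq_zero fun t _ => if_neg fun h => hft (by rw [← h]; exact t.2.1), sub_zero]
        by_contra hne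
        exact hft (hxs f (MvPolynomial.mem_support_iff.2 hne) hcon)
    refine (Submodule.mem_span_range_iff_exists_fun A).2 ⟨fun t => π (c t), ?_⟩
    simp only [v, hsm]
    refine ((_root_.map_sum (Submodule.mkQ _) (fun t => π (c t) * π (mon t)) Finset.univ).symm.trans ?_)
    refine (Submodule.Quotient.eq _).2 ((Submodule.Quotient.mk_eq_zero _).1 ((hQmem _).2 ?_))
    rw [map_sub, map_sum, hx, ← neg_sub, neg_eq_zero]
    simp only [map_mul, hπ', ← map_mul, ← map_sum, ← map_sub, Ideal.Quotient.eq_zero_iff_mem]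
    exact hxJ
  · intro a ha t
    choose z hz using fun t => hπ's (a t)
    simp only [v, hsm] at ha
    have h1 := (hQmem _).1 ((_root_.map_sum (Submodule.mkQ _) (fun t => a t * π (mon t)) Finset.univ).trans ha)
    rw [_root_.map_sum π'] at h1
    simp only [map_mul, hπ', hz] at h1
    simp only [← map_mul, ← _root_.map_sum (Ideal.Quotient.mk J), Ideal.Quotient.eq_zero_iff_mem] at h1
    by_contra hnm
    have hzm : z t ∉ m' := fun h => hnm (hzmem' (a t) (z t) (hz t) h)
    have h4 := (hJ _).1 h1 t.1
    rw [MvPolynomial.mem_support_iff, map_sum, MvPolynomial.coeff_sum] at h4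
    simp only [map_mul, hmon, MvPolynomial.coeff_mul_monomial', mul_one] at h4
    obtain ⟨j, hj⟩ := h4 (by
      rw [Finset.sum_eq_single t (fun t' _ ht' => if_neg fun h => ht' ?_) (fun h => absurd (Finset.mem_univ _) h),
        if_pos le_rfl, tsub_self]
      · exact fun h => hzm ((hmem _).2 h)
      · refine Subtype.ext (Finsupp.ext fun i => ?_)
        by_contra hne
        have hlt : t'.1 i < t.1 i := lt_of_le_of_ne (h i) hne
        have h5 : t'.1.degree < t.1.degree := by
          rw [Finsupp.degree_eq_sum, Finsupp.degree_eq_sum]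
          exact Finset.sum_lt_sum (fun i _ => h i) ⟨i, Finset.mem_univ _, hlt⟩
        rw [t.2.1, t'.2.1] at h5
        exact lt_irrefl _ h5)
    have := t.2.2 j
    omega

end Groth.Agent.GrLCVeronese.PolyType
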